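import Mathlib
import Cfsg.Prelude.Def_Solvable
import Cfsg.Agent.Helper1.Cores

/-!
# Gagola's theorem on characters vanishing off two classes: group-theoretic core, basics

`Cam p N` packages the purely group-theoretic consequences of the existence of an irreducible
character which is nonzero exactly on a normal `p`-subgroup `N` consisting of two classes:
`N` is a nontrivial `p`-group, its nonidentity elements form one class of `G`, and every
element outside `N` is conjugate to all elements of its coset.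
-/

set_option autoImplicit false

namespace Cfsg.Agent.Gagola

variable {G : Type*} [Group G]

/-- The group-theoretic setting. -/
structure Cam (p : ℕ) (N : Subgroup G) : Prop where
  pgrp : IsPGroup p N
  ne_bot : N ≠ ⊥
  trans : ∀ a ∈ N, ∀ b ∈ N, a ≠ 1 → b ≠ 1 → IsConj a b
  cam : ∀ g : G, g ∉ N → ∀ n ∈ N, IsConj g (g * n)

variable {p : ℕ} [hp : Fact p.Prime] {N : Subgroup G} [hN : N.Normal]

omit hp hN in
theorem Cam.exists_ne_one (h : Cam p N) : ∃ c ∈ N, c ≠ 1 := by
  obtain ⟨a, ha⟩ := Subgroup.ne_bot_iff_exists_ne_one.mp h.ne_bot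
  exact ⟨a.1, a.2, fun h1 => ha (Subtype.ext h1)⟩

/-- `N` is commutative. -/
theorem Cam.comm [Finite G] (h : Cam p N) : ∀ a ∈ N, ∀ b ∈ N, a * b = b * a := by
  have hnt : Nontrivial ↥N := by
    obtain ⟨c, hc, hc1⟩ := h.exists_ne_one
    exact ⟨⟨⟨c, hc⟩, 1, fun h1 => hc1 (congrArg Subtype.val h1)⟩⟩
  have hcen := h.pgrp.center_nontrivial
  obtain ⟨z, hz⟩ := exists_ne (1 : ↥(Subgroup.center ↥N))
  have hz1 : ((z : ↥N) : G) ≠ 1 := by
    intro h1
    apply hz
    apply Subtype.ext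
    apply Subtype.ext
    exact h1
  have hzc : ∀ b ∈ N, ((z : ↥N) : G) * b = b * ((z : ↥N) : G) := by
    intro b hb
    have := (Subgroup.mem_center_iff.mp z.2) ⟨b, hb⟩
    have h2 := congrArg Subtype.val this
    simpa using h2.symm
  intro a ha b hb
  by_cases ha1 : a = 1
  · rw [ha1, one_mul, mul_one]
  obtain ⟨g, hg⟩ := isConj_iff.mp (h.trans _ (z : ↥N).2 a ha hz1 ha1)
  have hb' : g⁻¹ * b * g ∈ N := by
    have := hN.conj_mem b hb g⁻¹
    simpa using this
  have h3 := hzc _ hb'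
  rw [← hg]
  calc g * ((z : ↥N) : G) * g⁻¹ * b = g * (((z : ↥N) : G) * (g⁻¹ * b * g)) * g⁻¹ := by group
    _ = g * ((g⁻¹ * b * g) * ((z : ↥N) : G)) * g⁻¹ := by rw [h3]
    _ = b * (g * ((z : ↥N) : G) * g⁻¹) := by group

omit hN in
theorem Cam.orderOf_mem (h : Cam p N) {n : G} (hn : n ∈ N) : ∃ k : ℕ, orderOf n = p ^ k := by
  obtain ⟨k, hk⟩ := (IsPGroup.iff_orderOf.mp h.pgrp) ⟨n, hn⟩
  refine ⟨k, ?_⟩
  rw [← hk, ← Subgroup.orderOf_coe]

theorem isConj_orderOf_eq {a b : G} (h : IsConj a b) : orderOf a = orderOf b := by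
  obtain ⟨g, hg⟩ := isConj_iff.mp h
  rw [← hg]
  have : g * a * g⁻¹ = MulAut.conj g a := by simp [MulAut.conj_apply]
  rw [this, MulEquiv.orderOf_eq]

omit hN in
/-- Elements of order prime to `p` act without fixed points on `N`. -/
theorem Cam.fpf (h : Cam p N) {y : G} (hy1 : y ≠ 1) (hy : (orderOf y).Coprime p) {n : G}
    (hn : n ∈ N) (hc : y * n = n * y) : n = 1 := by
  have hyN : y ∉ N := by
    intro hyN
    obtain ⟨k, hk⟩ := h.orderOf_mem hyN
    rw [hk] at hy
    have hk0 : k = 0 := by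
      by_contra hk0
      have : p ∣ p ^ k := dvd_pow_self p hk0
      have h2 : p ∣ Nat.gcd (p ^ k) p := Nat.dvd_gcd this dvd_rfl
      rw [Nat.Coprime] at hy
      rw [hy] at h2
      exact hp.out.one_lt.ne' (Nat.dvd_one.mp h2)
    rw [hk0, pow_zero, orderOf_eq_one_iff] at hk
    exact hy1 hk
  have hconj := h.cam y hyN n hn
  have hord := isConj_orderOf_eq hconj
  have hpow : (y * n) ^ orderOf y = n ^ orderOf y := by
    have hcomm : Commute y n := hc
    rw [hcomm.mul_pow, pow_orderOf_eq_one, one_mul]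
  have h1 : n ^ orderOf y = 1 := by
    rw [← hpow, hord, pow_orderOf_eq_one]
  have hdvd := orderOf_dvd_of_pow_eq_one h1
  obtain ⟨k, hk⟩ := h.orderOf_mem hn
  rw [hk] at hdvd
  have hk0 : k = 0 := by
    by_contra hk0
    have h2 : p ∣ orderOf y := dvd_trans (dvd_pow_self p hk0) hdvd
    have h3 : p ∣ Nat.gcd (orderOf y) p := Nat.dvd_gcd h2 dvd_rfl
    rw [Nat.Coprime] at hy
    rw [hy] at h3
    exact hp.out.one_lt.ne' (Nat.dvd_one.mp h3)
  rw [hk0, pow_zero, orderOf_eq_one_iff] at hk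
  exact hk

/-- If `N = O_p(G)` then `N` is self-centralizing. -/
theorem Cam.cent [Finite G] (h : Cam p N) (hcore : N = Cfsg.pCore p G) {g : G}
    (hg : ∀ n ∈ N, g * n = n * g) : g ∈ N := by
  set C : Subgroup G := Subgroup.centralizer (N : Set G) with hC
  have hCn : C.Normal := by
    rw [hC]
    infer_instance
  have hCp : IsPGroup p C := by
    intro x
    have ho : orderOf (x : G) ≠ 0 := (orderOf_pos (x : G)).ne'
    obtain ⟨e, m, hm, hom⟩ := Nat.exists_eq_pow_mul_and_not_dvd ho p hp.out.ne_one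
    refine ⟨e, ?_⟩
    apply Subtype.ext
    rw [Subgroup.coe_pow, Subgroup.coe_one]
    by_contra hne
    have hpe : p ^ e ≠ 0 := pow_ne_zero _ hp.out.ne_zero
    have hord : orderOf ((x : G) ^ p ^ e) = m := by
      rw [orderOf_pow_of_dvd hpe (by rw [hom]; exact Dvd.intro _ rfl), hom,
        Nat.mul_div_cancel_left _ (Nat.pos_of_ne_zero hpe)]
    have hcop : (orderOf ((x : G) ^ p ^ e)).Coprime p := by
      rw [hord]
      exact ((Nat.Prime.coprime_iff_not_dvd hp.out).mpr hm).symm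
    obtain ⟨c, hcN, hc1⟩ := h.exists_ne_one
    have hxc : (x : G) * c = c * (x : G) := by
      have := Subgroup.mem_centralizer_iff.mp x.2 c hcN
      exact this.symm
    have hcomm : Commute ((x : G) ^ p ^ e) c := (Commute.pow_left hxc _)
    exact hc1 (h.fpf hne hcop hcN hcomm)
  have hle : C ≤ N := by
    rw [hcore]
    exact Cfsg.Agent.Helper1.le_pCore hCn hCp
  apply hle
  rw [hC, Subgroup.mem_centralizer_iff]
  intro n hn
  exact (hg n hn).symm

omit hN in
/-- `N` has exponent `p`. -/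
theorem Cam.exp [Finite G] (h : Cam p N) {n : G} (hn : n ∈ N) : n ^ p = 1 := by
  have hnt : Nontrivial ↥N := by
    obtain ⟨c, hc, hc1⟩ := h.exists_ne_one
    exact ⟨⟨⟨c, hc⟩, 1, fun h1 => hc1 (congrArg Subtype.val h1)⟩⟩
  obtain ⟨k, hk0, hk⟩ := (h.pgrp.nontrivial_iff_card).mp hnt
  have hdvd : p ∣ Nat.card ↥N := by
    rw [hk]
    exact dvd_pow_self p hk0.ne'
  obtain ⟨c, hc⟩ := exists_prime_orderOf_dvd_card' p hdvd
  by_cases hn1 : n = 1
  · rw [hn1, one_pow]
  have hc1 : (c : G) ≠ 1 := by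
    intro h1
    have : c = 1 := Subtype.ext h1
    rw [this, orderOf_one] at hc
    exact hp.out.ne_one hc.symm
  obtain ⟨g, hg⟩ := isConj_iff.mp (h.trans _ c.2 n hn hc1 hn1)
  rw [← hg, conj_pow]
  have : (c : G) ^ p = 1 := by
    have h2 : c ^ p = 1 := by
      rw [← hc]
      exact pow_orderOf_eq_one c
    have := congrArg Subtype.val h2
    simpa using this
  rw [this, mul_one, mul_inv_cancel]

end Cfsg.Agent.Gagola
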