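import Mathlib
import Cfsg.Prelude.Def_Characters
import Cfsg.Agent.Helper6.ColumnOrth
import Cfsg.Agent.Helper6.KernelSet
import Cfsg.Agent.Helper6.BlockKernel
import Cfsg.Agent.Helper6.OddReal
import Cfsg.Agent.Helper6.IrrDegree
import Cfsg.Agent.Gagola.H8_Basic

/-!
# Gagola: the character-theoretic input

An irreducible character which is nonzero exactly on a normal subgroup `N` consisting of two
classes forces every other irreducible character to contain `N` in its kernel; hence every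
element outside `N` is conjugate to all elements of its coset.
-/

set_option autoImplicit false

namespace Cfsg.Agent.Gagola

open Cfsg.Agent.Helper6
open scoped ComplexConjugate

universe u

variable {G : Type u} [Group G]

/-- Irreducible characters separate conjugacy classes. -/
theorem isConj_of_irr_eq [Finite G] {x y : G}
    (h : ∀ φ : Cfsg.IrrCharacter G, (φ : G → ℂ) x = (φ : G → ℂ) y) : IsConj x y := by
  classical
  let _ : Fintype G := Fintype.ofFinite G
  have hfin : Finite (Cfsg.IrrCharacter G) := irr_finite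
  let _ : Fintype (Cfsg.IrrCharacter G) := Fintype.ofFinite _
  by_contra hne
  have h1 := column_orthogonality_aux x y
  rw [if_neg hne] at h1
  have h2 := column_orthogonality_aux y y
  rw [if_pos (IsConj.refl y)] at h2
  have h3 : ∑ χ : Cfsg.IrrCharacter G, (χ : G → ℂ) x * conj ((χ : G → ℂ) y) =
      ∑ χ : Cfsg.IrrCharacter G, (χ : G → ℂ) y * conj ((χ : G → ℂ) y) := by
    apply Finset.sum_congr rfl
    intro χ _
    rw [h χ]
  rw [h3, h2] at h1
  have hpos : 0 < Nat.card (Subgroup.centralizer ({y} : Set G)) := Nat.card_pos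
  have : (Nat.card (Subgroup.centralizer ({y} : Set G)) : ℂ) ≠ 0 := by
    exact_mod_cast hpos.ne'
  exact this h1

variable {p : ℕ} [hp : Fact p.Prime] {N : Subgroup G} [hN : N.Normal]

omit hp hN in
/-- The two-class hypothesis: nonidentity elements of the support are conjugate. -/
theorem conj_of_two_classes (χ : G → ℂ)
    (hχ : Nat.card {C : ConjClasses G // ∃ g ∈ C.carrier, χ g ≠ 0} = 2) (h1 : χ 1 ≠ 0)
    {a b : G} (ha : χ a ≠ 0) (hb : χ b ≠ 0) (ha1 : a ≠ 1) (hb1 : b ≠ 1) : IsConj a b := by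
  obtain ⟨x, y, hxy, huniv⟩ := Nat.card_eq_two_iff.mp hχ
  let c1 : {C : ConjClasses G // ∃ g ∈ C.carrier, χ g ≠ 0} :=
    ⟨ConjClasses.mk 1, 1, ConjClasses.mem_carrier_mk, h1⟩
  let ca : {C : ConjClasses G // ∃ g ∈ C.carrier, χ g ≠ 0} :=
    ⟨ConjClasses.mk a, a, ConjClasses.mem_carrier_mk, ha⟩
  let cb : {C : ConjClasses G // ∃ g ∈ C.carrier, χ g ≠ 0} :=
    ⟨ConjClasses.mk b, b, ConjClasses.mem_carrier_mk, hb⟩
  have hmem : ∀ c : {C : ConjClasses G // ∃ g ∈ C.carrier, χ g ≠ 0}, c = x ∨ c = y := by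
    intro c
    have : c ∈ ({x, y} : Set _) := by rw [huniv]; trivial
    simpa using this
  have h1a : c1 ≠ ca := by
    intro h
    have h2 : ConjClasses.mk (1 : G) = ConjClasses.mk a := congrArg Subtype.val h
    exact ha1 (isConj_one_right.mp (ConjClasses.mk_eq_mk_iff_isConj.mp h2))
  have h1b : c1 ≠ cb := by
    intro h
    have h2 : ConjClasses.mk (1 : G) = ConjClasses.mk b := congrArg Subtype.val h
    exact hb1 (isConj_one_right.mp (ConjClasses.mk_eq_mk_iff_isConj.mp h2))
  have hab : ca = cb := by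
    rcases hmem c1 with e1 | e1 <;> rcases hmem ca with ea | ea <;> rcases hmem cb with eb | eb
    all_goals first
      | (exact ea.trans eb.symm)
      | (exact absurd (e1.trans ea.symm) h1a)
      | (exact absurd (e1.trans eb.symm) h1b)
  have h2 : ConjClasses.mk a = ConjClasses.mk b := congrArg Subtype.val hab
  exact ConjClasses.mk_eq_mk_iff_isConj.mp h2

/-- Every irreducible character other than `χ` contains `N` in its kernel. -/
theorem ker_of_ne [Finite G] (χ : Cfsg.IrrCharacter G)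
    (hN' : ∀ g : G, g ∈ N ↔ (χ : G → ℂ) g ≠ 0)
    (htr : ∀ a ∈ N, ∀ b ∈ N, a ≠ 1 → b ≠ 1 → IsConj a b)
    (hχ1 : (χ : G → ℂ) ≠ fun _ => (1 : ℂ))
    (φ : Cfsg.IrrCharacter G) (hφ : φ ≠ χ) :
    ∀ n ∈ N, (φ : G → ℂ) n = (φ : G → ℂ) 1 := by
  classical
  let _ : Fintype G := Fintype.ofFinite G
  set F : Finset G := Finset.univ.filter (fun g : G => g ∈ N) with hF
  have hmemF : ∀ g : G, g ∈ F ↔ g ∈ N := by
    intro g
    rw [hF, Finset.mem_filter]
    simp
  have h1F : (1 : G) ∈ F := (hmemF 1).mpr N.one_mem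
  have hχ1ne : (χ : G → ℂ) 1 ≠ 0 := (hN' 1).mp N.one_mem
  have hcf : Cfsg.IsClassFunction G (χ : G → ℂ) :=
    IsCharacter.isClassFunction (IsIrrCharacter.isCharacter χ.2)
  -- sum of χ over N vanishes
  have hsumχ : ∑ n ∈ F, (χ : G → ℂ) n = 0 := by
    have h1 := classInner_irr_ne χ.2 isIrrCharacter_one hχ1
    rw [classInner_def] at h1
    simp only [map_one, mul_one] at h1
    have hG0 : (Nat.card G : ℂ)⁻¹ ≠ 0 := by
      apply inv_ne_zero
      have : 0 < Nat.card G := Nat.card_pos
      exact_mod_cast this.ne'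
    have h2 := (mul_eq_zero.mp h1).resolve_left hG0
    rw [← h2, hF]
    apply Finset.sum_filter_of_ne
    intro g _ hg
    exact (hN' g).mpr hg
  -- orthogonality of φ and χ, restricted to N
  have hsumφχ : ∑ n ∈ F, (φ : G → ℂ) n * conj ((χ : G → ℂ) n) = 0 := by
    have hne : (φ : G → ℂ) ≠ (χ : G → ℂ) := fun h => hφ (Subtype.ext h)
    have h1 := classInner_irr_ne φ.2 χ.2 hne
    rw [classInner_def] at h1
    have hG0 : (Nat.card G : ℂ)⁻¹ ≠ 0 := by
      apply inv_ne_zero
      have : 0 < Nat.card G := Nat.card_pos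
      exact_mod_cast this.ne'
    have h2 := (mul_eq_zero.mp h1).resolve_left hG0
    rw [← h2, hF]
    apply Finset.sum_filter_of_ne
    intro g _ hg
    apply (hN' g).mpr
    intro h0
    apply hg
    rw [h0, map_zero, mul_zero]
  rcases kernel_or_sum_eq_zero φ N with hk | hs
  · exact hk
  · exfalso
    rw [← hF] at hs
    -- χ is constant (= a) on F.erase 1
    by_cases hE : (F.erase 1) = ∅
    · -- N trivial: then χ 1 = 0
      have := Finset.add_sum_erase F (fun n => (χ : G → ℂ) n) h1F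
      rw [hE, Finset.sum_empty, add_zero, hsumχ] at this
      exact hχ1ne this
    obtain ⟨c, hc⟩ := Finset.nonempty_iff_ne_empty.mpr hE
    have hcF : c ∈ F := Finset.mem_of_mem_erase hc
    have hc1 : c ≠ 1 := Finset.ne_of_mem_erase hc
    set a := (χ : G → ℂ) c with ha
    have hconst : ∀ n ∈ F.erase 1, (χ : G → ℂ) n = a := by
      intro n hn
      have hnF : n ∈ F := Finset.mem_of_mem_erase hn
      have hn1 : n ≠ 1 := Finset.ne_of_mem_erase hn
      have := htr c ((hmemF c).mp hcF) n ((hmemF n).mp hnF) hc1 hn1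
      rw [ha]
      exact (IsClassFunction.eq_of_isConj hcf this).symm
    -- the three sums
    have e1 := Finset.add_sum_erase F (fun n => (χ : G → ℂ) n) h1F
    have e2 := Finset.add_sum_erase F (fun n => (φ : G → ℂ) n * conj ((χ : G → ℂ) n)) h1F
    have e3 := Finset.add_sum_erase F (fun n => (φ : G → ℂ) n) h1F
    rw [hsumχ] at e1
    rw [hsumφχ] at e2
    rw [hs] at e3
    have e1' : ∑ n ∈ F.erase 1, (χ : G → ℂ) n = ((F.erase 1).card : ℂ) * a := by
      rw [Finset.sum_congr rfl hconst, Finset.sum_const, nsmul_eq_mul]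
    have e2' : ∑ n ∈ F.erase 1, (φ : G → ℂ) n * conj ((χ : G → ℂ) n) =
        (∑ n ∈ F.erase 1, (φ : G → ℂ) n) * conj a := by
      rw [Finset.sum_mul]
      apply Finset.sum_congr rfl
      intro n hn
      rw [hconst n hn]
    rw [e1'] at e1
    rw [e2'] at e2
    -- from e3: Σ' φ = - φ 1; from e2: φ 1 * conj (χ 1) = φ 1 * conj a
    have e4 : ∑ n ∈ F.erase 1, (φ : G → ℂ) n = - (φ : G → ℂ) 1 := by
      linear_combination e3
    rw [e4] at e2
    have hφ1 : (φ : G → ℂ) 1 ≠ 0 := IsIrrCharacter.apply_one_ne_zero φ.2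
    have e5 : conj ((χ : G → ℂ) 1) = conj a := by
      have : (φ : G → ℂ) 1 * (conj ((χ : G → ℂ) 1) - conj a) = 0 := by
        linear_combination e2
      have := (mul_eq_zero.mp this).resolve_left hφ1
      exact sub_eq_zero.mp this
    have e6 : (χ : G → ℂ) 1 = a := by
      have := congrArg conj e5
      simpa using this
    -- now e1: χ 1 + card * a = 0 gives (card + 1) * a = 0
    rw [e6] at e1
    have e7 : ((F.erase 1).card + 1 : ℂ) * a = 0 := by linear_combination e1
    have e8 : ((F.erase 1).card + 1 : ℂ) ≠ 0 := by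
      have h9 : (((F.erase 1).card + 1 : ℕ) : ℂ) ≠ 0 :=
        Nat.cast_ne_zero.mpr (Nat.succ_ne_zero (F.erase 1).card)
      rw [Nat.cast_add, Nat.cast_one] at h9
      exact h9
    have := (mul_eq_zero.mp e7).resolve_left e8
    rw [← e6] at this
    exact hχ1ne this

omit hp in
/-- The character hypotheses of Gagola's theorem give the group-theoretic setting. -/
theorem cam_of_char [Finite G] (χ : Cfsg.IrrCharacter G)
    (hχ : Nat.card {C : ConjClasses G // ∃ g ∈ C.carrier, (χ : G → ℂ) g ≠ 0} = 2)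
    (hN' : ∀ g : G, g ∈ N ↔ (χ : G → ℂ) g ≠ 0) (hNp : IsPGroup p N) (hN1 : N ≠ ⊥) :
    Cam p N := by
  have hχ1ne : (χ : G → ℂ) 1 ≠ 0 := (hN' 1).mp N.one_mem
  have htr : ∀ a ∈ N, ∀ b ∈ N, a ≠ 1 → b ≠ 1 → IsConj a b := by
    intro a ha b hb ha1 hb1
    exact conj_of_two_classes (χ : G → ℂ) hχ hχ1ne ((hN' a).mp ha) ((hN' b).mp hb) ha1 hb1
  refine ⟨hNp, hN1, htr, ?_⟩
  intro g hg n hn
  have hχ1 : (χ : G → ℂ) ≠ fun _ => (1 : ℂ) := by
    intro h
    apply hg
    rw [hN', h]
    exact one_ne_zero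
  apply isConj_of_irr_eq
  intro φ
  by_cases hφ : φ = χ
  · rw [hφ]
    have h1 : (χ : G → ℂ) g = 0 := by
      by_contra h0
      exact hg ((hN' g).mpr h0)
    have h2 : (χ : G → ℂ) (g * n) = 0 := by
      by_contra h0
      have h3 := (hN' (g * n)).mpr h0
      apply hg
      have : g = g * n * n⁻¹ := by group
      rw [this]
      exact N.mul_mem h3 (N.inv_mem hn)
    rw [h1, h2]
  · have hk := ker_of_ne χ hN' htr hχ1 φ hφ n hn
    exact ((IsIrrCharacter.mul_ker φ.2 hk g).1).symm

end Cfsg.Agent.Gagola
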