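import Mathlib
import Cfsg.Prelude.Def_Solvable
import Cfsg.Agent.Helper4.FrobeniusInternal
import Cfsg.Agent.Gagola.H8_Basic

/-!
# Gagola: a complement to `N` is a Frobenius complement, regular on `N ∖ {1}`
-/

set_option autoImplicit false

namespace Cfsg.Agent.Gagola

variable {G : Type*} [Group G]
variable {p : ℕ} [hp : Fact p.Prime] {N : Subgroup G} [hN : N.Normal]

theorem decomp_of_sup {H : Subgroup G} (hsup : N ⊔ H = ⊤) (g : G) :
    ∃ n ∈ N, ∃ h ∈ H, g = n * h := by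
  have hg : g ∈ N ⊔ H := by rw [hsup]; trivial
  rw [← SetLike.mem_coe, Subgroup.normal_mul] at hg
  obtain ⟨n, hn, h, hh, rfl⟩ := Set.mem_mul.mp hg
  exact ⟨n, hn, h, hh, rfl⟩

omit hp in
/-- A complement acts without fixed points. -/
theorem Cam.compl_fpf [Finite G] (h : Cam p N) {H : Subgroup G} (hNH : N ⊓ H = ⊥)
    (hsup : N ⊔ H = ⊤) {u : G} (hu : u ∈ H) (hu1 : u ≠ 1) {n : G} (hn : n ∈ N)
    (hc : u * n = n * u) : n = 1 := by
  have hmeet : ∀ x : G, x ∈ N → x ∈ H → x = 1 := by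
    intro x hxN hxH
    have : x ∈ N ⊓ H := ⟨hxN, hxH⟩
    rw [hNH] at this
    exact this
  have huN : u ∉ N := fun huN => hu1 (hmeet u huN hu)
  -- the map m ↦ u⁻¹ m u m⁻¹ on N is surjective
  let f : ↥N → ↥N := fun m => ⟨u⁻¹ * (m : G) * u * (m : G)⁻¹, by
    have h1 : u⁻¹ * (m : G) * u ∈ N := by
      have := hN.conj_mem (m : G) m.2 u⁻¹
      simpa using this
    exact N.mul_mem h1 (N.inv_mem m.2)⟩
  have hsurj : Function.Surjective f := by
    intro n'
    obtain ⟨g, hg⟩ := isConj_iff.mp (h.cam u huN (n' : G) n'.2)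
    obtain ⟨m, hm, k, hk, rfl⟩ := decomp_of_sup hsup g
    set u' := k * u * k⁻¹ with hu'
    have hu'H : u' ∈ H := H.mul_mem (H.mul_mem hk hu) (H.inv_mem hk)
    have hg' : m * u' * m⁻¹ = u * (n' : G) := by
      rw [← hg, hu']; group
    have h1 : u'⁻¹ * m * u' * m⁻¹ ∈ N := by
      have h2 : u'⁻¹ * m * u' ∈ N := by
        have := hN.conj_mem m hm u'⁻¹
        simpa using this
      exact N.mul_mem h2 (N.inv_mem hm)
    have h3 : u⁻¹ * u' ∈ N := by
      have : u⁻¹ * u' = (n' : G) * (u'⁻¹ * m * u' * m⁻¹)⁻¹ := by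
        have h4 : u' * (u'⁻¹ * m * u' * m⁻¹) = u * (n' : G) := by
          rw [← hg']; group
        have h5 : u' = u * (n' : G) * (u'⁻¹ * m * u' * m⁻¹)⁻¹ := by
          rw [← h4]; group
        calc u⁻¹ * u' = u⁻¹ * (u * (n' : G) * (u'⁻¹ * m * u' * m⁻¹)⁻¹) := by rw [← h5]
          _ = (n' : G) * (u'⁻¹ * m * u' * m⁻¹)⁻¹ := by group
      rw [this]
      exact N.mul_mem n'.2 (N.inv_mem h1)
    have h6 : u⁻¹ * u' ∈ H := H.mul_mem (H.inv_mem hu) hu'H
    have h7 : u' = u := by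
      have := hmeet _ h3 h6
      exact (inv_mul_eq_one.mp this).symm
    refine ⟨⟨m, hm⟩, ?_⟩
    apply Subtype.ext
    show u⁻¹ * m * u * m⁻¹ = (n' : G)
    rw [h7] at hg'
    calc u⁻¹ * m * u * m⁻¹ = u⁻¹ * (m * u * m⁻¹) := by group
      _ = u⁻¹ * (u * (n' : G)) := by rw [hg']
      _ = (n' : G) := by group
  have hinj : Function.Injective f := Finite.injective_iff_surjective.mpr hsurj
  have h1 : f ⟨n, hn⟩ = f 1 := by
    apply Subtype.ext
    show u⁻¹ * n * u * n⁻¹ = u⁻¹ * ((1 : ↥N) : G) * u * ((1 : ↥N) : G)⁻¹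
    rw [Subgroup.coe_one]
    calc u⁻¹ * n * u * n⁻¹ = u⁻¹ * (n * u) * n⁻¹ := by group
      _ = u⁻¹ * (u * n) * n⁻¹ := by rw [hc]
      _ = u⁻¹ * 1 * u * 1⁻¹ := by group
  have := hinj h1
  exact congrArg Subtype.val this

/-- A complement is a Frobenius complement with kernel `N`, of order `|N| - 1`. -/
theorem Cam.frob [Finite G] (h : Cam p N) (hG : 2 < Nat.card G) {H : Subgroup G}
    (hNH : N ⊓ H = ⊥) (hsup : N ⊔ H = ⊤) :
    Cfsg.IsFrobeniusComplement H ∧ Cfsg.frobeniusKernel H = (N : Set G) ∧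
      Nat.card H + 1 = Nat.card N := by
  classical
  have hcomm := h.comm
  obtain ⟨c, hcN, hc1⟩ := h.exists_ne_one
  -- `H` is in bijection with `N ∖ {1}`
  have hcard : Nat.card H = Nat.card {n : ↥N // n ≠ 1} := by
    let φ : ↥H → {n : ↥N // n ≠ 1} := fun k => ⟨⟨(k : G) * c * (k : G)⁻¹, hN.conj_mem c hcN _⟩, by
      intro h1
      have h2 := congrArg Subtype.val h1
      simp only [Subgroup.coe_one] at h2
      apply hc1
      calc c = (k : G)⁻¹ * ((k : G) * c * (k : G)⁻¹) * (k : G) := by group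
        _ = 1 := by rw [h2]; group⟩
    apply Nat.card_congr
    apply Equiv.ofBijective φ
    constructor
    · intro k k' hkk
      have h1 := congrArg (fun x : {n : ↥N // n ≠ 1} => ((x : ↥N) : G)) hkk
      simp only [φ] at h1
      have h2 : ((k' : G)⁻¹ * (k : G)) * c = c * ((k' : G)⁻¹ * (k : G)) := by
        calc ((k' : G)⁻¹ * (k : G)) * c = (k' : G)⁻¹ * ((k : G) * c * (k : G)⁻¹) * (k : G) := by group
          _ = (k' : G)⁻¹ * ((k' : G) * c * (k' : G)⁻¹) * (k : G) := by rw [h1]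
          _ = c * ((k' : G)⁻¹ * (k : G)) := by group
      by_contra hne
      have h3 : (k' : G)⁻¹ * (k : G) ≠ 1 := by
        intro h4
        apply hne
        apply Subtype.ext
        exact (inv_mul_eq_one.mp h4).symm
      have h5 : (k' : G)⁻¹ * (k : G) ∈ H := H.mul_mem (H.inv_mem k'.2) k.2
      exact hc1 (h.compl_fpf hNH hsup h5 h3 hcN h2)
    · rintro ⟨⟨n, hn⟩, hn1⟩
      have hn1' : n ≠ 1 := fun h1 => hn1 (Subtype.ext h1)
      obtain ⟨g, hg⟩ := isConj_iff.mp (h.trans c hcN n hn hc1 hn1')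
      obtain ⟨m, hm, k, hk, rfl⟩ := decomp_of_sup hsup g
      refine ⟨⟨k, hk⟩, ?_⟩
      apply Subtype.ext
      apply Subtype.ext
      show k * c * k⁻¹ = n
      have hkc : k * c * k⁻¹ ∈ N := hN.conj_mem c hcN k
      rw [← hg]
      calc k * c * k⁻¹ = (m * (k * c * k⁻¹)) * m⁻¹ := by
            rw [hcomm m hm _ hkc]; group
        _ = m * k * c * (m * k)⁻¹ := by group
  have hcard2 : Nat.card {n : ↥N // n ≠ 1} + 1 = Nat.card ↥N := by
    let _ : Fintype ↥N := Fintype.ofFinite _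
    rw [Nat.card_eq_fintype_card, Nat.card_eq_fintype_card, Fintype.card_subtype_compl,
      Fintype.card_subtype_eq]
    have : 0 < Fintype.card ↥N := Fintype.card_pos
    omega
  have hH1 : H ≠ ⊥ := by
    intro hbot
    rw [hbot, sup_bot_eq] at hsup
    have h1 : Nat.card (⊥ : Subgroup G) = 1 := Subgroup.card_bot
    rw [hbot, h1] at hcard
    have h2 : Nat.card ↥N = 2 := by omega
    have h3 : Nat.card ↥N = Nat.card G := by
      rw [hsup]
      exact Subgroup.card_top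
    omega
  have hfr := Cfsg.Agent.Helper4.isFrobeniusComplement_of_fpf N H hNH hsup h.ne_bot hH1
    (fun k hk hk1 n hn hkn => h.compl_fpf hNH hsup hk hk1 hn hkn)
  exact ⟨hfr.1, hfr.2, by omega⟩

end Cfsg.Agent.Gagola
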