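import Mathlib

/-!
# Gagola: the key module computation

In a finite commutative group with an automorphism `α` without nontrivial fixed points and an
endomorphism `τ` with `α τ α = τ`, every `τ`-fixed `w` is of the form `-(x + τ x)`.
-/

set_option autoImplicit false

namespace Cfsg.Agent.Gagola

theorem add_key {A : Type*} [AddCommGroup A] [Finite A] (α τ : A →+ A) (w : A)
    (hτw : τ w = w) (hfix : ∀ a, α a = a → a = 0) (hατ : ∀ a, α (τ (α a)) = τ a) :
    ∃ x, x + τ x + w = 0 := by
  have hinj : Function.Injective (fun a : A => a - α a) := by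
    intro a b hab
    simp only at hab
    have h1 : α (a - b) = a - b := by
      rw [map_sub]
      have : a - b = α a - α b := by
        have h2 : a - α a - (b - α b) = 0 := by rw [hab, sub_self]
        have h3 : a - b - (α a - α b) = a - α a - (b - α b) := by abel
        rw [← h3] at h2
        exact sub_eq_zero.mp h2
      exact this.symm
    exact sub_eq_zero.mp (hfix _ h1)
  obtain ⟨x, hx⟩ := (Finite.injective_iff_surjective.mp hinj) (α w)
  simp only at hx
  refine ⟨x, ?_⟩
  apply hfix
  have h1 : α x = x - α w := by rw [← hx]; abel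
  have h2 : τ x - τ (α x) = τ (α w) := by rw [← map_sub, hx]
  have h3 : α (τ x) - τ x = w := by
    have := congrArg α h2
    rw [map_sub, hατ, hατ, hτw] at this
    exact this
  have h4 : α (τ x) = τ x + w := by rw [← h3]; abel
  rw [map_add, map_add, h1, h4]
  abel

theorem mul_key {A : Type*} [CommGroup A] [Finite A] (α τ : A →* A) (w : A)
    (hτw : τ w = w) (hfix : ∀ a, α a = a → a = 1) (hατ : ∀ a, α (τ (α a)) = τ a) :
    ∃ x, x * τ x * w = 1 :=
  add_key (A := Additive A) (MonoidHom.toAdditive α) (MonoidHom.toAdditive τ) (Additive.ofMul w)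
    hτw hfix hατ

end Cfsg.Agent.Gagola
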