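import Mathlib
import Cfsg.Prelude.Def_Solvable
import Cfsg.Agent.Helper6.ColumnOrth
import Cfsg.Agent.Gagola.H8_Basic

/-!
# Gagola: for odd `p` and `N = O_p(G)` the extension splits (centralizer of an involution)
-/

set_option autoImplicit false

namespace Cfsg.Agent.Gagola

variable {G : Type*} [Group G]
variable {p : ℕ} [hp : Fact p.Prime] {N : Subgroup G} [hN : N.Normal]

theorem card_ne_one_add_one (K : Type*) [Group K] [Finite K] :
    Nat.card {n : K // n ≠ 1} + 1 = Nat.card K := by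
  classical
  let _ : Fintype K := Fintype.ofFinite _
  rw [Nat.card_eq_fintype_card, Nat.card_eq_fintype_card, Fintype.card_subtype_compl,
    Fintype.card_subtype_eq]
  have : 0 < Fintype.card K := Fintype.card_pos
  omega

omit hp in
/-- The class of a nonidentity element of `N` has `|N| - 1` elements. -/
theorem Cam.card_class [Finite G] (h : Cam p N) {c : G} (hcN : c ∈ N) (hc1 : c ≠ 1) :
    Nat.card {x : G // IsConj c x} + 1 = Nat.card ↥N := by
  rw [← card_ne_one_add_one ↥N]
  congr 1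
  apply Nat.card_congr
  refine
    { toFun := fun x => ⟨⟨x.1, ?_⟩, ?_⟩
      invFun := fun n => ⟨n.1.1, ?_⟩
      left_inv := fun x => rfl
      right_inv := fun n => rfl }
  · obtain ⟨g, hg⟩ := isConj_iff.mp x.2
    rw [← hg]
    exact hN.conj_mem c hcN g
  · intro h1
    have h2 : (x.1 : G) = 1 := congrArg Subtype.val h1
    obtain ⟨g, hg⟩ := isConj_iff.mp x.2
    rw [h2] at hg
    apply hc1
    calc c = g⁻¹ * (g * c * g⁻¹) * g := by group
      _ = 1 := by rw [hg]; group
  · have hn1 : (n.1 : G) ≠ 1 := fun h1 => n.2 (Subtype.ext h1)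
    exact h.trans c hcN _ n.1.2 hc1 hn1

theorem Cam.exists_compl_odd [Finite G] (h : Cam p N) (hcore : N = Cfsg.pCore p G)
    (hp2 : p ≠ 2) : ∃ H : Subgroup G, N ⊓ H = ⊥ ∧ N ⊔ H = ⊤ := by
  classical
  have hcomm := h.comm
  obtain ⟨c, hcN, hc1⟩ := h.exists_ne_one
  have hodd : Odd (Nat.card ↥N) := by
    obtain ⟨k, hk⟩ := h.pgrp.exists_card_eq
    rw [hk]
    exact (hp.out.odd_of_ne_two hp2).pow
  have h2 : 2 ∣ Nat.card G := by
    have h3 := Cfsg.Agent.Helper6.card_conj_mul_card_centralizer c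
    have h4 := h.card_class hcN hc1
    obtain ⟨j, hj⟩ := hodd
    have h5 : Nat.card {x : G // IsConj c x} = 2 * j := by omega
    rw [← h3, h5]
    exact ⟨j * Nat.card ↥(Subgroup.centralizer ({c} : Set G)), by ring⟩
  obtain ⟨t, ht⟩ := exists_prime_orderOf_dvd_card' 2 h2
  have htt : t * t = 1 := by
    rw [← pow_two, ← ht]
    exact pow_orderOf_eq_one t
  have ht1 : t ≠ 1 := by
    intro h1
    rw [h1, orderOf_one] at ht
    omega
  have htcop : (orderOf t).Coprime p := by
    rw [ht]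
    exact (Nat.coprime_primes Nat.prime_two hp.out).mpr (Ne.symm hp2)
  -- `t` inverts `N`
  have hinv : ∀ n ∈ N, t * n * t⁻¹ = n⁻¹ := by
    intro n hn
    have hn' : t * n * t⁻¹ ∈ N := hN.conj_mem n hn t
    have hm : n * (t * n * t⁻¹) ∈ N := N.mul_mem hn hn'
    have hfix : t * (n * (t * n * t⁻¹)) = (n * (t * n * t⁻¹)) * t := by
      have hc := hcomm n hn _ hn'
      have e : t * (n * (t * n * t⁻¹)) * t⁻¹ = (t * n * t⁻¹) * ((t * t) * n * (t * t)⁻¹) := by
        group
      rw [htt, one_mul, inv_one, mul_one, ← hc] at e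
      exact mul_inv_eq_iff_eq_mul.mp e
    have := h.fpf ht1 htcop hm hfix
    exact eq_inv_of_mul_eq_one_right this
  have hinv' : ∀ n ∈ N, t⁻¹ * n * t = n⁻¹ := by
    intro n hn
    have hn' : t⁻¹ * n * t ∈ N := by
      have := hN.conj_mem n hn t⁻¹
      simpa using this
    have e := hinv _ hn'
    have e2 : t * (t⁻¹ * n * t) * t⁻¹ = n := by group
    rw [e2] at e
    calc t⁻¹ * n * t = ((t⁻¹ * n * t)⁻¹)⁻¹ := (inv_inv _).symm
      _ = n⁻¹ := by rw [← e]
  refine ⟨Subgroup.centralizer ({t} : Set G), ?_, ?_⟩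
  · rw [eq_bot_iff]
    intro x hx
    obtain ⟨hxN, hxH⟩ := Subgroup.mem_inf.mp hx
    rw [Subgroup.mem_centralizer_singleton_iff] at hxH
    rw [Subgroup.mem_bot]
    exact h.fpf ht1 htcop hxN hxH.symm
  · rw [eq_top_iff]
    intro g _
    set z := g * t * g⁻¹ * t⁻¹ with hz
    have hzN : z ∈ N := by
      apply h.cent hcore
      intro n hn
      have e1 := hinv' n hn
      have hn1 : g⁻¹ * n⁻¹ * g ∈ N := by
        have := hN.conj_mem n⁻¹ (N.inv_mem hn) g⁻¹
        simpa using this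
      have e2 := hinv _ hn1
      have key : z * n * z⁻¹ = n := by
        have e3 : z * n * z⁻¹ = g * (t * (g⁻¹ * (t⁻¹ * n * t) * g) * t⁻¹) * g⁻¹ := by
          rw [hz]; group
        rw [e3, e1, e2]
        group
      exact mul_inv_eq_iff_eq_mul.mp key
    -- a square root of `z` in `N`
    obtain ⟨j, hj⟩ := hodd
    have hzpow : z ^ Nat.card ↥N = 1 := by
      have h3 : (⟨z, hzN⟩ : ↥N) ^ Nat.card ↥N = 1 := pow_card_eq_one'
      have h4 := congrArg Subtype.val h3
      rwa [Subgroup.coe_pow, Subgroup.coe_one] at h4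
    set m := z ^ (j + 1) with hm
    have hmN : m ∈ N := N.pow_mem hzN _
    have hmm : m * m = z := by
      rw [hm, ← pow_add]
      have : j + 1 + (j + 1) = Nat.card ↥N + 1 := by omega
      rw [this, pow_succ, hzpow, one_mul]
    have hk : m⁻¹ * g ∈ Subgroup.centralizer ({t} : Set G) := by
      rw [Subgroup.mem_centralizer_singleton_iff]
      have e3 := hinv m hmN
      have e4 : (m⁻¹ * g) * t * (m⁻¹ * g)⁻¹ = m⁻¹ * (g * t * g⁻¹ * t⁻¹) * (t * m * t⁻¹) * t := by
        group
      rw [← hz, e3, ← hmm] at e4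
      have e5 : m⁻¹ * (m * m) * m⁻¹ * t = t := by group
      rw [e5] at e4
      exact mul_inv_eq_iff_eq_mul.mp e4
    have : g = m * (m⁻¹ * g) := by group
    rw [this]
    exact Subgroup.mul_mem_sup hmN hk

end Cfsg.Agent.Gagola
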