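import Mathlib
import Cfsg.Prelude.Def_Solvable
import Cfsg.Agent.S0200
import Cfsg.Agent.Gagola.H8_Basic
import Cfsg.Agent.Gagola.H8_Key

/-!
# Gagola: for `p = 2` and `N = O_2(G)` the quotient `G/N` has odd order, so the extension splits
-/

set_option autoImplicit false

namespace Cfsg.Agent.Gagola

variable {G : Type*} [Group G]
variable {N : Subgroup G} [hN : N.Normal]

/-- No element of `G ∖ N` squaring into `N` inverts (modulo `N`) a nontrivial element of odd
order. -/
theorem Cam.no_inverted [Finite G] (h : Cam 2 N) (hcore : N = Cfsg.pCore 2 G) {u y : G}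
    (huN : u ∉ N) (huu : u * u ∈ N) (hy1 : y ≠ 1) (hyodd : Odd (orderOf y))
    (hrel : u * y * u⁻¹ * y ∈ N) : False := by
  classical
  have : Fact (Nat.Prime 2) := ⟨Nat.prime_two⟩
  have hcomm := h.comm
  let _ : CommGroup ↥N :=
    { (inferInstance : Group ↥N) with
      mul_comm := fun a b => Subtype.ext (hcomm a a.2 b b.2) }
  have hycop : (orderOf y).Coprime 2 := Nat.coprime_two_right.mpr hyodd
  set n0 := u * y * u⁻¹ * y with hn0
  let α : ↥N →* ↥N := (MulAut.conjNormal y : MulAut ↥N).toMonoidHom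
  let τ : ↥N →* ↥N := (MulAut.conjNormal u : MulAut ↥N).toMonoidHom
  have hα : ∀ a : ↥N, ((α a : ↥N) : G) = y * (a : G) * y⁻¹ := fun a =>
    MulAut.conjNormal_apply y a
  have hτ : ∀ a : ↥N, ((τ a : ↥N) : G) = u * (a : G) * u⁻¹ := fun a =>
    MulAut.conjNormal_apply u a
  let w : ↥N := ⟨u * u, huu⟩
  have hτw : τ w = w := by
    apply Subtype.ext
    rw [hτ]
    show u * (u * u) * u⁻¹ = u * u
    group
  have hfix : ∀ a : ↥N, α a = a → a = 1 := by
    intro a ha
    have h1 := congrArg Subtype.val ha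
    rw [hα] at h1
    have h2 : y * (a : G) = (a : G) * y := mul_inv_eq_iff_eq_mul.mp h1
    apply Subtype.ext
    exact h.fpf hy1 hycop a.2 h2
  have hατ : ∀ a : ↥N, α (τ (α a)) = τ a := by
    intro a
    apply Subtype.ext
    rw [hα, hτ, hα, hτ]
    have hX : u * (a : G) * u⁻¹ ∈ N := hN.conj_mem _ a.2 u
    have hZ : y⁻¹ * (u * (a : G) * u⁻¹) * y ∈ N := by
      have := hN.conj_mem _ hX y⁻¹
      simpa using this
    have e1 : u * (y * (a : G) * y⁻¹) * u⁻¹ =
        n0 * (y⁻¹ * (u * (a : G) * u⁻¹) * y) * n0⁻¹ := by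
      rw [hn0]; group
    have e2 : n0 * (y⁻¹ * (u * (a : G) * u⁻¹) * y) * n0⁻¹ =
        y⁻¹ * (u * (a : G) * u⁻¹) * y := by
      rw [hcomm n0 hrel _ hZ]; group
    rw [e1, e2]
    group
  obtain ⟨x, hx⟩ := mul_key α τ w hτw hfix hατ
  have hx' : (x : G) * (u * (x : G) * u⁻¹) * (u * u) = 1 := by
    have h1 := congrArg Subtype.val hx
    rw [Subgroup.coe_mul, Subgroup.coe_mul, hτ] at h1
    exact h1
  -- `(x u)^2 = 1`
  have hxu : ((x : G) * u) * ((x : G) * u) = 1 := by
    rw [← hx']; group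
  have hn1 : u⁻¹ * (x : G) * u ∈ N := by
    have := hN.conj_mem _ x.2 u⁻¹
    simpa using this
  have hc1 := h.cam u huN _ hn1
  have e3 : u * (u⁻¹ * (x : G) * u) = (x : G) * u := by group
  rw [e3] at hc1
  have hord := isConj_orderOf_eq hc1
  have hu2 : u * u = 1 := by
    have h1 : orderOf ((x : G) * u) ∣ 2 := by
      apply orderOf_dvd_of_pow_eq_one
      rw [pow_two]; exact hxu
    rw [← hord] at h1
    have := orderOf_dvd_iff_pow_eq_one.mp h1
    rwa [pow_two] at this
  -- now `u` centralizes `N`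
  apply huN
  apply h.cent hcore
  intro n hn
  have hc2 := h.cam u huN n hn
  have hord2 := isConj_orderOf_eq hc2
  have h2 : (u * n) * (u * n) = 1 := by
    have h1 : orderOf u ∣ 2 := by
      apply orderOf_dvd_of_pow_eq_one
      rw [pow_two]; exact hu2
    rw [hord2] at h1
    have := orderOf_dvd_iff_pow_eq_one.mp h1
    rwa [pow_two] at this
  have hn2 : n * n = 1 := by
    have := h.exp hn
    rwa [pow_two] at this
  -- u n u n = 1, u u = 1, n n = 1  ⟹  u n = n u
  have h3 : u * n = (u * n)⁻¹ := eq_inv_of_mul_eq_one_left h2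
  have h4 : n⁻¹ = n := inv_eq_of_mul_eq_one_right hn2
  have h5 : u⁻¹ = u := inv_eq_of_mul_eq_one_right hu2
  rw [mul_inv_rev, h4, h5] at h3
  exact h3

theorem Cam.exists_compl_two [Finite G] (h : Cam 2 N) (hcore : N = Cfsg.pCore 2 G) :
    ∃ H : Subgroup G, N ⊓ H = ⊥ ∧ N ⊔ H = ⊤ := by
  classical
  have : Fact (Nat.Prime 2) := ⟨Nat.prime_two⟩
  have hodd : ¬ 2 ∣ Nat.card (G ⧸ N) := by
    intro h2
    obtain ⟨ub, hub⟩ := exists_prime_orderOf_dvd_card' 2 h2
    have hub1 : ub ≠ 1 := by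
      intro h1
      rw [h1, orderOf_one] at hub
      omega
    have hO : ∀ M : Subgroup (G ⧸ N), M.Normal → IsPGroup 2 M → ub ∉ M := by
      intro M hMn hMp hmem
      set K := M.comap (QuotientGroup.mk' N) with hK
      have hKn : K.Normal := hMn.comap _
      have hKp : IsPGroup 2 K := by
        apply hMp.comap_of_ker_isPGroup
        rw [QuotientGroup.ker_mk']
        exact h.pgrp
      have hKN : K ≤ N := by
        rw [hcore]
        exact Cfsg.Agent.Helper1.le_pCore hKn hKp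
      obtain ⟨u, rfl⟩ := QuotientGroup.mk_surjective ub
      have huK : u ∈ K := by
        rw [hK, Subgroup.mem_comap]
        exact hmem
      exact hub1 ((QuotientGroup.eq_one_iff u).mpr (hKN huK))
    obtain ⟨yb, hyb1, hybodd, hinv⟩ := Cfsg.Agent.S0200.result ub hub hO
    obtain ⟨u, rfl⟩ := QuotientGroup.mk_surjective ub
    obtain ⟨y0, rfl⟩ := QuotientGroup.mk_surjective yb
    set k := orderOf (y0 : G ⧸ N) with hk
    have huN : u ∉ N := fun hu => hub1 ((QuotientGroup.eq_one_iff u).mpr hu)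
    have huu : u * u ∈ N := by
      rw [← QuotientGroup.eq_one_iff, QuotientGroup.mk_mul, ← pow_two, ← hub]
      exact pow_orderOf_eq_one _
    have hy0k : y0 ^ k ∈ N := by
      rw [← QuotientGroup.eq_one_iff, QuotientGroup.mk_pow, hk]
      exact pow_orderOf_eq_one _
    obtain ⟨j, hj⟩ := hybodd
    set y := y0 ^ (k + 1) with hy
    have hymk : (y : G ⧸ N) = (y0 : G ⧸ N) := by
      rw [hy, QuotientGroup.mk_pow, pow_succ, hk, pow_orderOf_eq_one, one_mul]
    have hyk : y ^ k = 1 := by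
      have h1 : (y0 ^ k) ^ 2 = 1 := h.exp hy0k
      have h2 : k + 1 = 2 * (j + 1) := by omega
      rw [hy, ← pow_mul, mul_comm, pow_mul, h2, pow_mul, h1, one_pow]
    have hy1 : y ≠ 1 := by
      intro h1
      apply hyb1
      rw [← hymk, h1]
      rfl
    have hyodd : Odd (orderOf y) := by
      have hdvd : orderOf y ∣ k := orderOf_dvd_of_pow_eq_one hyk
      exact Odd.of_dvd_nat ⟨j, hj⟩ hdvd
    have hrel : u * y * u⁻¹ * y ∈ N := by
      rw [← QuotientGroup.eq_one_iff, QuotientGroup.mk_mul, QuotientGroup.mk_mul,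
        QuotientGroup.mk_mul, QuotientGroup.mk_inv, hymk, hinv, inv_mul_cancel]
    exact h.no_inverted hcore huN huu hy1 hyodd hrel
  have hcop : (Nat.card ↥N).Coprime N.index := by
    obtain ⟨e, he⟩ := h.pgrp.exists_card_eq
    rw [he, Subgroup.index_eq_card]
    apply Nat.Coprime.pow_left
    apply Nat.coprime_two_left.mpr
    exact Nat.odd_iff.mpr (Nat.two_dvd_ne_zero.mp hodd)
  obtain ⟨H, hH⟩ := Subgroup.exists_right_complement'_of_coprime hcop
  exact ⟨H, hH.disjoint.eq_bot, hH.sup_eq_top⟩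

end Cfsg.Agent.Gagola
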