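import Mathlib
import Cfsg.Prelude.Def_Solvable
import Cfsg.Agent.Helper1.Frobenius
import Cfsg.Agent.Helper1.Cores
import Cfsg.Agent.Gagola.H8_Frob
import Cfsg.Agent.Gagola.H8_SplitOdd
import Cfsg.Agent.Gagola.H8_SplitTwo

/-!
# Gagola's theorem: group-theoretic statement and the converse
-/

set_option autoImplicit false

namespace Cfsg.Agent.Gagola

variable {G : Type*} [Group G]
variable {p : ℕ} [hp : Fact p.Prime] {N : Subgroup G} [hN : N.Normal]

theorem Cam.exists_frob [Finite G] (h : Cam p N) (hcore : N = Cfsg.pCore p G)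
    (hG : 2 < Nat.card G) :
    ∃ H : Subgroup G, Cfsg.IsFrobeniusComplement H ∧ Cfsg.frobeniusKernel H = (N : Set G) ∧
      Nat.card H + 1 = Nat.card N := by
  by_cases hp2 : p = 2
  · subst hp2
    obtain ⟨H, h1, h2⟩ := h.exists_compl_two hcore
    exact ⟨H, h.frob hG h1 h2⟩
  · obtain ⟨H, h1, h2⟩ := h.exists_compl_odd hcore hp2
    exact ⟨H, h.frob hG h1 h2⟩

theorem core_of_frob [Finite G] (hNp : IsPGroup p N) {H : Subgroup G}
    (hH : Cfsg.IsFrobeniusComplement H) (hker : Cfsg.frobeniusKernel H = (N : Set G))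
    (hcard : Nat.card H + 1 = Nat.card N) : N = Cfsg.pCore p G := by
  have hle : N ≤ Cfsg.pCore p G := Cfsg.Agent.Helper1.le_pCore hN hNp
  apply Subgroup.eq_of_le_of_card_ge hle
  have h1 := (Cfsg.Agent.Helper1.frobenius_count H hH).1
  rw [hker] at h1
  have h1' : Nat.card ↥N = H.index := h1
  have hGc : Nat.card G = Nat.card ↥N * Nat.card ↥H := by
    rw [h1']
    exact (H.index_mul_card).symm
  obtain ⟨j, hj⟩ := (Cfsg.Agent.Helper1.pCore_isPGroup (G := G) p).exists_card_eq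
  obtain ⟨k, hk⟩ := hNp.exists_card_eq
  have hHpos : 0 < Nat.card ↥H := Nat.card_pos
  have hk0 : k ≠ 0 := by
    intro h0
    rw [h0, pow_zero] at hk
    omega
  have hpN : p ∣ Nat.card ↥N := by
    rw [hk]
    exact dvd_pow_self p hk0
  have hpH : ¬ p ∣ Nat.card ↥H := by
    intro hd
    have h2 : p ∣ Nat.card ↥N - Nat.card ↥H := Nat.dvd_sub hpN hd
    have h3 : Nat.card ↥N - Nat.card ↥H = 1 := by omega
    rw [h3] at h2
    exact hp.out.one_lt.ne' (Nat.dvd_one.mp h2)
  have hcop : (Nat.card ↥(Cfsg.pCore p G)).Coprime (Nat.card ↥H) := by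
    rw [hj]
    apply Nat.Coprime.pow_left
    exact (Nat.Prime.coprime_iff_not_dvd hp.out).mpr hpH
  have hdvd : Nat.card ↥(Cfsg.pCore p G) ∣ Nat.card ↥N * Nat.card ↥H := by
    rw [← hGc]
    exact Subgroup.card_subgroup_dvd_card _
  have hdvd2 : Nat.card ↥(Cfsg.pCore p G) ∣ Nat.card ↥N := hcop.dvd_of_dvd_mul_right hdvd
  exact Nat.le_of_dvd Nat.card_pos hdvd2

end Cfsg.Agent.Gagola
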