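import Mathlib
import Cfsg.Prelude.Def_Solvable
import Cfsg.Prelude.Def_Transfer
import Cfsg.Prelude.Def_CaseTheorems
import Cfsg.Agent.Helper1.Fitting2
import Cfsg.Agent.Helper1.PNilpBasic

/-!
# Gagola's theorem, solvable case: assembling the local information

If `O_p(K) = 1` for a finite solvable group `K` and, for every prime `r ≠ p`, the action of `K`
on `O_r(K)` is `p`-nilpotent with abelian Sylow `p`-subgroups (in the concrete form below), then
`K` has a normal `p`-complement and abelian Sylow `p`-subgroups.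
-/

set_option autoImplicit false

namespace Cfsg.Agent.Gagola

open Cfsg.Agent.Helper1
open scoped commutatorElement

variable {K : Type*} [Group K]

/-- A `p`-element centralizing every `O_r(K)`, `r ≠ p`, is trivial when `O_p(K) = 1`. -/
theorem eq_one_of_centralizes_cores [Finite K] [Group.IsSolvable K] {p : ℕ} [hp : Fact p.Prime]
    (hcore : Cfsg.pCore p K = ⊥) {x : K} (hx : ∃ j : ℕ, x ^ (p ^ j) = 1)
    (hc : ∀ r : ℕ, r.Prime → r ≠ p → x ∈ Subgroup.centralizer (Cfsg.pCore r K : Set K)) :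
    x = 1 := by
  set F := Cfsg.fittingSubgroup K with hF
  have hFle : F ≤ Subgroup.centralizer ({x} : Set K) := by
    rw [hF, fittingSubgroup_eq_fitJoin, fitJoin]
    apply iSup_le
    intro q
    by_cases hq : (q : ℕ) = p
    · rw [hq, hcore]
      exact bot_le
    · intro h hh
      rw [Subgroup.mem_centralizer_iff]
      intro y hy
      rw [Set.mem_singleton_iff] at hy
      subst hy
      exact ((Subgroup.mem_centralizer_iff.1 (hc q q.2 hq)) h hh).symm
  have hxC : x ∈ Subgroup.centralizer (F : Set K) := by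
    rw [Subgroup.mem_centralizer_iff]
    intro h hh
    exact ((Subgroup.mem_centralizer_iff.1 (hFle hh)) x (Set.mem_singleton x)).symm
  have hxF : x ∈ F := centralizer_fittingSubgroup_le hxC
  have hFcop : (Nat.card F).Coprime p := by
    have hle : F ≤ (⨆ (q : Nat.Primes) (_ : q ≠ (⟨p, hp.out⟩ : Nat.Primes)),
        Cfsg.pCore (q : ℕ) K : Subgroup K) := by
      rw [hF, fittingSubgroup_eq_fitJoin, fitJoin]
      apply iSup_le
      intro q
      by_cases hq : q = (⟨p, hp.out⟩ : Nat.Primes)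
      · rw [hq]
        show Cfsg.pCore p K ≤ _
        rw [hcore]
        exact bot_le
      · exact le_iSup₂ (f := fun (q : Nat.Primes) (_ : q ≠ (⟨p, hp.out⟩ : Nat.Primes)) =>
          Cfsg.pCore (q : ℕ) K) q hq
    have h1 := card_iSup_pCore_ne_coprime (G := K) (⟨p, hp.out⟩ : Nat.Primes)
    exact Nat.Coprime.coprime_dvd_left (Subgroup.card_dvd_of_le hle) h1
  obtain ⟨j, hj⟩ := hx
  have h1 : orderOf x ∣ p ^ j := orderOf_dvd_of_pow_eq_one hj
  have h2 : orderOf x ∣ Nat.card F := by
    have : orderOf (⟨x, hxF⟩ : F) = orderOf x := Subgroup.orderOf_mk x hxF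
    rw [← this]
    exact orderOf_dvd_natCard _
  have h3 : orderOf x = 1 :=
    Nat.eq_one_of_dvd_coprimes (Nat.Coprime.pow_right j hFcop) h2 h1
  exact orderOf_eq_one_iff.1 h3

/-- The assembly lemma. -/
theorem assemble [Finite K] [Group.IsSolvable K] {p : ℕ} [hp : Fact p.Prime]
    (hcore : Cfsg.pCore p K = ⊥)
    (hM : ∀ r : ℕ, r.Prime → r ≠ p → ∃ M : Subgroup K, M.Normal ∧
      (∀ x ∈ M, (∃ j : ℕ, x ^ (p ^ j) = 1) →
        x ∈ Subgroup.centralizer (Cfsg.pCore r K : Set K)) ∧ ∃ j : ℕ, M.index = p ^ j)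
    (hP : ∀ r : ℕ, r.Prime → r ≠ p → ∀ P : Subgroup K, IsPGroup p P → ∀ x ∈ P, ∀ y ∈ P,
      ⁅x, y⁆ ∈ Subgroup.centralizer (Cfsg.pCore r K : Set K)) :
    Cfsg.HasNormalPComplement p K ∧
      ∀ P : Subgroup K, IsPGroup p P → ∀ x ∈ P, ∀ y ∈ P, x * y = y * x := by
  constructor
  · choose M hMn hMp hMi using
      fun r : {r : ℕ // r.Prime ∧ r ≠ p} => hM r.1 r.2.1 r.2.2
    set T : Subgroup K := ⨅ r, M r with hT
    have hTn : T.Normal := Subgroup.normal_iInf_normal hMn
    have hTp : ∀ x ∈ T, (∃ j : ℕ, x ^ (p ^ j) = 1) → x = 1 := by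
      intro x hx hxp
      apply eq_one_of_centralizes_cores hcore hxp
      intro r hr hrp
      have hxr : x ∈ M ⟨r, hr, hrp⟩ := (Subgroup.mem_iInf.1 hx) ⟨r, hr, hrp⟩
      exact hMp ⟨r, hr, hrp⟩ x hxr hxp
    have hTcop : (Nat.card T).Coprime p := by
      rw [Nat.coprime_comm, Nat.Prime.coprime_iff_not_dvd hp.out]
      intro hdvd
      obtain ⟨x, hx⟩ := exists_prime_orderOf_dvd_card' p hdvd
      have hx1 : (x : K) = 1 := by
        apply hTp x x.2
        refine ⟨1, ?_⟩
        rw [pow_one]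
        have := pow_orderOf_eq_one x
        rw [hx] at this
        exact_mod_cast congrArg Subtype.val this
      have : x = 1 := Subtype.ext hx1
      rw [this, orderOf_one] at hx
      exact hp.out.one_lt.ne hx
    have hpow : ∀ (k : K) (r : {r : ℕ // r.Prime ∧ r ≠ p}), k ^ (p ^ Nat.card K) ∈ M r := by
      intro k r
      obtain ⟨j, hj⟩ := hMi r
      have := hMn r
      have h1 : ((k : K ⧸ M r)) ^ (p ^ j) = 1 := by
        rw [← hj, Subgroup.index_eq_card]
        exact pow_card_eq_one'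
      have h2 : k ^ (p ^ j) ∈ M r := by
        rw [← QuotientGroup.eq_one_iff]
        exact_mod_cast h1
      have hjle : j ≤ Nat.card K := by
        have h3 : p ^ j ≤ Nat.card K := by
          rw [← hj]
          exact Nat.le_of_dvd Nat.card_pos (Subgroup.index_dvd_card _)
        exact (Nat.lt_pow_self hp.out.one_lt).le.trans h3
      have h4 : k ^ (p ^ Nat.card K) = (k ^ (p ^ j)) ^ (p ^ (Nat.card K - j)) := by
        rw [← pow_mul, ← pow_add, Nat.add_sub_cancel' hjle]
      rw [h4]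
      exact Subgroup.pow_mem _ h2 _
    have hTq : IsPGroup p (K ⧸ T) := by
      intro q
      obtain ⟨k, rfl⟩ := QuotientGroup.mk_surjective q
      refine ⟨Nat.card K, ?_⟩
      rw [← QuotientGroup.mk_pow, QuotientGroup.eq_one_iff, hT, Subgroup.mem_iInf]
      exact hpow k
    obtain ⟨j, hj⟩ := IsPGroup.iff_card.1 hTq
    rw [hasNormalPComplement_iff_exists]
    exact ⟨T, hTn, hTcop, j, by rw [Subgroup.index_eq_card, hj]⟩
  · intro P hPp x hx y hy
    have hc : ⁅x, y⁆ ∈ P := by
      rw [commutatorElement_def]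
      exact P.mul_mem (P.mul_mem (P.mul_mem hx hy) (P.inv_mem hx)) (P.inv_mem hy)
    have hcp : ∃ j : ℕ, ⁅x, y⁆ ^ (p ^ j) = 1 := by
      obtain ⟨j, hj⟩ := hPp ⟨⁅x, y⁆, hc⟩
      refine ⟨j, ?_⟩
      have h2 := congrArg Subtype.val hj
      rwa [Subgroup.coe_pow, Subgroup.coe_one] at h2
    have h1 : ⁅x, y⁆ = 1 := by
      apply eq_one_of_centralizes_cores hcore hcp
      intro r hr hrp
      exact hP r hr hrp P hPp x hx y hy
    exact commutatorElement_eq_one_iff_mul_comm.1 h1

end Cfsg.Agent.Gagola
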