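import Mathlib

/-!
# Gagola's theorem, solvable case: automorphisms of cyclic and generalized quaternion groups
-/

set_option autoImplicit false

namespace Cfsg.Agent.Gagola

open QuaternionGroup
open scoped commutatorElement

/-- The automorphism group of a cyclic group is commutative: commutators centralize a cyclic
normal subgroup. -/
theorem commutator_mem_centralizer_of_isCyclic {K : Type*} [Group K] (R : Subgroup K) [R.Normal]
    [IsCyclic R] (x y : K) : ⁅x, y⁆ ∈ Subgroup.centralizer (R : Set K) := by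
  let ρ : K →* MulAut R := MulAut.conjNormal
  have hcomm : ∀ a b : MulAut R, a * b = b * a := by
    intro a b
    let E := IsCyclic.mulAutMulEquiv R
    apply E.injective
    rw [map_mul, map_mul, mul_comm]
  have h1 : ρ ⁅x, y⁆ = 1 := by
    rw [commutatorElement_def, map_mul, map_mul, map_mul, map_inv, map_inv, hcomm (ρ x) (ρ y)]
    group
  rw [Subgroup.mem_centralizer_iff]
  intro g hg
  have h2 := congrArg (fun f : MulAut R => ((f ⟨g, hg⟩ : R) : K)) h1
  simp only [ρ, MulAut.conjNormal_apply, MulAut.one_apply] at h2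
  calc g * ⁅x, y⁆ = (⁅x, y⁆ * g * ⁅x, y⁆⁻¹) * ⁅x, y⁆ := by rw [h2]
    _ = ⁅x, y⁆ * g := by group

section quat

variable {n : ℕ}

theorem a_pow' (t : ZMod (2 * n)) (k : ℕ) :
    (a t : QuaternionGroup n) ^ k = a ((k : ZMod (2 * n)) * t) := by
  induction k with
  | zero =>
    rw [pow_zero, Nat.cast_zero, zero_mul]
    exact one_def
  | succ k ih =>
    rw [pow_succ, ih, a_mul_a]
    congr 1
    push_cast
    ring

/-- An automorphism of odd order of a generalized quaternion group of order at least `16` is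
trivial. -/
theorem quat_aut_eq_one' (N : ℕ) [NeZero N] {e : ℕ} (hN : N = 2 ^ e) (he : 2 ≤ e)
    (β : MulAut (QuaternionGroup N)) {m : ℕ}
    (hm : Odd m) (hβ : β ^ m = 1) : β = 1 := by
  have h4 : 4 ≤ N := by
    calc 4 = 2 ^ 2 := by norm_num
      _ ≤ 2 ^ e := Nat.pow_le_pow_right (by norm_num) he
      _ = N := hN.symm
  -- step 1: β (a 1) = a t
  obtain ⟨t, ht⟩ : ∃ t, β (a 1) = a t := by
    rcases hb : β (a 1) with t | t
    · exact ⟨t, rfl⟩
    · exfalso
      have h1 : orderOf (β (a 1)) = orderOf (a 1 : QuaternionGroup N) := MulEquiv.orderOf_eq β _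
      rw [hb, orderOf_xa, orderOf_a_one] at h1
      omega
  -- step 2
  have hβa : ∀ i : ZMod (2 * N), β (a i) = a (t * i) := by
    intro i
    have hi : (a i : QuaternionGroup N) = (a 1) ^ i.val := by
      rw [a_one_pow, ZMod.natCast_zmod_val]
    rw [hi, map_pow, ht, a_pow', ZMod.natCast_zmod_val, mul_comm]
  -- step 3
  have hpow : ∀ j : ℕ, (β ^ j) (a 1) = a (t ^ j) := by
    intro j
    induction j with
    | zero => simp
    | succ j ih =>
      rw [pow_succ', MulAut.mul_apply, ih, hβa, pow_succ']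
  have htm : t ^ m = 1 := by
    have h1 := hpow m
    rw [hβ, MulAut.one_apply] at h1
    have h2 : (a 1 : QuaternionGroup N) = a (t ^ m) := h1
    injection h2 with h3
    exact h3.symm
  -- step 4: t = 1
  have ht1 : t = 1 := by
    have hm0 : m ≠ 0 := by
      rintro rfl
      exact (Nat.not_odd_iff_even.2 (by decide : Even 0)) hm
    let u : (ZMod (2 * N))ˣ := Units.ofPowEqOne t m htm hm0
    have hu : u ^ m = 1 := Units.ext (by simp [u])
    have hcard : Nat.card (ZMod (2 * N))ˣ = N := by
      rw [Nat.card_eq_fintype_card, ZMod.card_units_eq_totient]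
      have : 2 * N = 2 ^ (e + 1) := by rw [hN, pow_succ]; ring
      rw [this, Nat.totient_prime_pow Nat.prime_two (Nat.succ_pos e)]
      simp [hN]
    have hu2 : u ^ Nat.card (ZMod (2 * N))ˣ = 1 := pow_card_eq_one'
    rw [hcard] at hu2
    have h1 : orderOf u ∣ m := orderOf_dvd_of_pow_eq_one hu
    have h2 : orderOf u ∣ N := orderOf_dvd_of_pow_eq_one hu2
    have hcop : Nat.Coprime m N := by
      rw [hN]
      apply Nat.Coprime.pow_right
      exact Nat.coprime_two_right.2 hm
    have h3 : orderOf u = 1 := Nat.eq_one_of_dvd_coprimes hcop h1 h2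
    have h4 : u = 1 := orderOf_eq_one_iff.1 h3
    have h5 : (u : ZMod (2 * N)) = 1 := by rw [h4]; rfl
    simpa [u] using h5
  have hβa' : ∀ i : ZMod (2 * N), β (a i) = a i := by
    intro i
    rw [hβa, ht1, one_mul]
  -- step 5
  obtain ⟨s, hs⟩ : ∃ s, β (xa 0) = xa s := by
    rcases hb : β (xa 0) with j | s
    · exfalso
      have h1 : β (xa 0) = β (a j) := by rw [hb, hβa']
      have h2 := β.injective h1
      cases h2
    · exact ⟨s, rfl⟩
  have hβx : ∀ i : ZMod (2 * N), β (xa i) = xa (s + i) := by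
    intro i
    have hi : (xa i : QuaternionGroup N) = xa 0 * a i := by rw [xa_mul_a, zero_add]
    rw [hi, map_mul, hs, hβa', xa_mul_a]
  have hpowx : ∀ j : ℕ, (β ^ j) (xa 0) = xa ((j : ZMod (2 * N)) * s) := by
    intro j
    induction j with
    | zero => simp
    | succ j ih =>
      rw [pow_succ', MulAut.mul_apply, ih, hβx]
      congr 1
      push_cast
      ring
  have hs0 : s = 0 := by
    have h1 := hpowx m
    rw [hβ, MulAut.one_apply] at h1
    have h2 : (xa 0 : QuaternionGroup N) = xa ((m : ZMod (2 * N)) * s) := h1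
    injection h2 with h3
    have hunit : IsUnit (m : ZMod (2 * N)) := by
      rw [ZMod.isUnit_iff_coprime]
      have : 2 * N = 2 ^ (e + 1) := by rw [hN, pow_succ]; ring
      rw [this]
      apply Nat.Coprime.pow_right
      exact Nat.coprime_two_right.2 hm
    exact (hunit.mul_right_eq_zero).1 h3.symm
  ext x
  rcases x with i | i
  · rw [hβa', MulAut.one_apply]
  · rw [hβx, hs0, zero_add, MulAut.one_apply]

theorem quat_aut_eq_one {e : ℕ} (he : 2 ≤ e) (β : MulAut (QuaternionGroup (2 ^ e))) {m : ℕ}
    (hm : Odd m) (hβ : β ^ m = 1) : β = 1 :=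
  quat_aut_eq_one' (2 ^ e) rfl he β hm hβ

end quat

/-- Elements of odd order centralize a normal generalized quaternion subgroup of order at
least `16`. -/
theorem mem_centralizer_of_quat {K : Type*} [Group K] (R : Subgroup K) [R.Normal] {e : ℕ}
    (he : 2 ≤ e) (E : R ≃* QuaternionGroup (2 ^ e)) {k : K} {m : ℕ} (hm : Odd m)
    (hk : k ^ m = 1) : k ∈ Subgroup.centralizer (R : Set K) := by
  let ρ : K →* MulAut R := MulAut.conjNormal
  let β : MulAut (QuaternionGroup (2 ^ e)) := MulAut.congr E (ρ k)
  have hβ : β ^ m = 1 := by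
    show (MulAut.congr E (ρ k)) ^ m = 1
    rw [← map_pow, ← map_pow, hk, map_one, map_one]
  have h1 : β = 1 := quat_aut_eq_one he β hm hβ
  have h2 : ρ k = 1 := by
    have : MulAut.congr E (ρ k) = MulAut.congr E 1 := by rw [map_one]; exact h1
    exact (MulAut.congr E).injective this
  rw [Subgroup.mem_centralizer_iff]
  intro g hg
  have h3 := congrArg (fun f : MulAut R => ((f ⟨g, hg⟩ : R) : K)) h2
  simp only [ρ, MulAut.conjNormal_apply, MulAut.one_apply] at h3
  calc g * k = (k * g * k⁻¹) * k := by rw [h3]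
    _ = k * g := by group

end Cfsg.Agent.Gagola
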