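import Mathlib
import Cfsg.Agent.Helper1.FPF2
import Cfsg.Agent.S0016

/-!
# Gagola's theorem, solvable case: the abstract linear setting

`Lin p φ` : a group `K` acts (via `φ : K →* MulAut V`) on an abelian group `V` of exponent `p`,
faithfully, transitively on the nonidentity elements, with `p`-groups as point stabilizers.
-/

set_option autoImplicit false

namespace Cfsg.Agent.Gagola

open Cfsg.Agent.Helper1

variable {K : Type*} [Group K] {V : Type*} [CommGroup V]

/-- The abstract setting of a transitive linear group with `p`-groups as point stabilizers. -/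
structure Lin (p : ℕ) (φ : K →* MulAut V) : Prop where
  inj : Function.Injective φ
  exp : ∀ v : V, v ^ p = 1
  nt : ∃ v : V, v ≠ 1
  trans : ∀ v w : V, v ≠ 1 → w ≠ 1 → ∃ k : K, φ k v = w
  stab : ∀ (k : K) (v : V), v ≠ 1 → φ k v = v → ∃ n : ℕ, k ^ (p ^ n) = 1

variable {p : ℕ} [hp : Fact p.Prime] {φ : K →* MulAut V}

omit hp in
/-- Elements of order prime to `p` have no nontrivial fixed points. -/
theorem Lin.fpf (L : Lin p φ) {k : K} (hk1 : k ≠ 1) (hk : (orderOf k).Coprime p) {v : V}
    (hv : φ k v = v) : v = 1 := by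
  by_contra hv1
  obtain ⟨n, hn⟩ := L.stab k v hv1 hv
  have h1 : orderOf k ∣ p ^ n := orderOf_dvd_of_pow_eq_one hn
  have h2 : (orderOf k).Coprime (p ^ n) := Nat.Coprime.pow_right n hk
  have h3 : orderOf k = 1 := Nat.Coprime.eq_one_of_dvd h2 h1
  exact hk1 (orderOf_eq_one_iff.1 h3)

omit hp in
/-- Subgroups of order prime to `p` act fixed-point-freely. -/
theorem Lin.isFPF_of_coprime [Finite K] (L : Lin p φ) (R : Subgroup K)
    (hR : (Nat.card R).Coprime p) : IsFPF (φ.comp R.subtype) := by
  intro a ha w hw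
  have ha' : (a : K) ≠ 1 := fun h => ha (Subtype.ext h)
  have hord : (orderOf (a : K)).Coprime p := by
    have h1 : orderOf (a : K) ∣ Nat.card R := by
      rw [Subgroup.orderOf_coe]
      exact orderOf_dvd_natCard a
    exact Nat.Coprime.coprime_dvd_left h1 hR
  exact L.fpf ha' hord hw

/-- An `r`-subgroup, `r ≠ p`, is cyclic or generalized quaternion. -/
theorem Lin.cyclic_or_quat [Finite K] [Finite V] (L : Lin p φ) {r : ℕ} [hr : Fact r.Prime]
    (hrp : r ≠ p) (R : Subgroup K) (hR : IsPGroup r R) :
    IsCyclic R ∨ (r = 2 ∧ ∃ n : ℕ, Nonempty (R ≃* QuaternionGroup (2 ^ n))) := by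
  have hcop : (Nat.card R).Coprime p := by
    obtain ⟨k, hk⟩ := IsPGroup.iff_card.1 hR
    rw [hk]
    exact Nat.Coprime.pow_left _ ((Nat.coprime_primes hr.out hp.out).2 hrp)
  have hf := L.isFPF_of_coprime R hcop
  have key : ∀ (z a : R), z ∈ Subgroup.center R → orderOf z = r → a ^ r = 1 →
      a ∈ Subgroup.zpowers z := by
    intro z a hz hzo har
    by_contra hna
    obtain ⟨v, hv⟩ := L.nt
    have hz1 : z ≠ 1 := by
      rintro rfl
      rw [orderOf_one] at hzo
      exact hr.out.one_lt.ne hzo
    have hzr : z ^ r = 1 := by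
      rw [← hzo]
      exact pow_orderOf_eq_one z
    have hcomm : Commute z a := (Subgroup.mem_center_iff.1 hz a).symm
    have hvr : v ^ r = 1 := by
      apply hf.pow_eq_one_of_rank_two hr.out z a hcomm hzr har hz1 _ v
      intro i _ h
      apply hna
      have : a = (z ^ i)⁻¹ := eq_inv_of_mul_eq_one_right h
      rw [this]
      exact Subgroup.inv_mem _ (Subgroup.pow_mem _ (Subgroup.mem_zpowers z) i)
    have hvp : v ^ p = 1 := L.exp v
    have h1 : orderOf v ∣ r := orderOf_dvd_of_pow_eq_one hvr
    have h2 : orderOf v ∣ p := orderOf_dvd_of_pow_eq_one hvp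
    have h3 : orderOf v = 1 :=
      Nat.eq_one_of_dvd_coprimes ((Nat.coprime_primes hr.out hp.out).2 hrp) h1 h2
    exact hv (orderOf_eq_one_iff.1 h3)
  have huniq : ∀ A B : Subgroup R, Nat.card A = r → Nat.card B = r → A = B := by
    intro A B hA hB
    have hnt : Nontrivial R := by
      by_contra hnt
      rw [not_nontrivial_iff_subsingleton] at hnt
      have : Nat.card A = 1 := Nat.card_unique
      rw [hA] at this
      exact hr.out.one_lt.ne' this
    have hcn : Nontrivial (Subgroup.center R) := hR.center_nontrivial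
    have hcp : IsPGroup r (Subgroup.center R) := hR.to_subgroup _
    obtain ⟨k, hk⟩ := IsPGroup.iff_card.1 hcp
    have hk0 : k ≠ 0 := by
      rintro rfl
      rw [pow_zero] at hk
      have := (Finite.one_lt_card_iff_nontrivial (α := Subgroup.center R)).2 hcn
      omega
    have hdvd : r ∣ Nat.card (Subgroup.center R) := by
      rw [hk]
      exact dvd_pow_self r hk0
    obtain ⟨z, hz⟩ := exists_prime_orderOf_dvd_card' r hdvd
    have hzo : orderOf (z : R) = r := by
      rw [Subgroup.orderOf_coe]
      exact hz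
    have hall : ∀ C : Subgroup R, Nat.card C = r → C = Subgroup.zpowers (z : R) := by
      intro C hC
      apply Subgroup.eq_of_le_of_card_ge
      · intro c hc
        apply key _ c z.2 hzo
        have h1 : (⟨c, hc⟩ : C) ^ r = 1 := by
          have := pow_card_eq_one' (G := C) (x := ⟨c, hc⟩)
          rwa [hC] at this
        have h2 := congrArg Subtype.val h1
        rw [Subgroup.coe_pow, Subgroup.coe_one] at h2
        exact h2
      · rw [Nat.card_zpowers, hzo, hC]
    rw [hall A hA, hall B hB]
  exact Cfsg.Agent.S0016.result r hR huniq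

/-- Orbit-stabilizer: `|K| = p ^ a * (|V| - 1)`. -/
theorem Lin.card_eq [Finite K] [Finite V] (L : Lin p φ) :
    ∃ a : ℕ, Nat.card K = p ^ a * (Nat.card V - 1) := by
  classical
  obtain ⟨v₀, hv₀⟩ := L.nt
  let _ : MulAction K V :=
    { smul := fun k v => φ k v
      one_smul := by intro v; show φ 1 v = v; rw [map_one]; rfl
      mul_smul := by intro a b v; show φ (a * b) v = φ a (φ b v); rw [map_mul]; rfl }
  have hsmul : ∀ (k : K) (v : V), k • v = φ k v := fun _ _ => rfl
  have horb : MulAction.orbit K v₀ = ({1} : Set V)ᶜ := by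
    ext w
    constructor
    · rintro ⟨k, rfl⟩
      show k • v₀ ∈ ({1} : Set V)ᶜ
      rw [Set.mem_compl_iff, Set.mem_singleton_iff, hsmul]
      intro h
      apply hv₀
      have : φ k v₀ = φ k 1 := by rw [h, map_one]
      exact (φ k).injective this
    · intro hw
      have hw1 : w ≠ 1 := by simpa using hw
      obtain ⟨k, hk⟩ := L.trans v₀ w hv₀ hw1
      exact ⟨k, hk⟩
  have hstab : IsPGroup p (MulAction.stabilizer K v₀) := by
    intro g
    have hg : φ (g : K) v₀ = v₀ := g.2
    obtain ⟨n, hn⟩ := L.stab g v₀ hv₀ hg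
    exact ⟨n, Subtype.ext (by simpa using hn)⟩
  obtain ⟨a, ha⟩ := IsPGroup.iff_card.1 hstab
  refine ⟨a, ?_⟩
  have h1 := Subgroup.card_mul_index (MulAction.stabilizer K v₀)
  rw [MulAction.index_stabilizer, horb, Set.ncard_compl, Set.ncard_singleton, ha] at h1
  exact h1.symm

end Cfsg.Agent.Gagola
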