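import Mathlib

/-!
# Gagola's theorem, solvable case: automorphisms of the quaternion group of order `8`

The automorphism group of `Q₈` permutes the three cyclic subgroups of order `4`; the kernel of
this action has exponent `2` and at most `4` elements.  We pull this back to a group `K` with a
normal subgroup `R ≅ Q₈`.
-/

set_option autoImplicit false

namespace Cfsg.Agent.Gagola

open QuaternionGroup

/-- The quaternion group of order `8`. -/
abbrev Q8 := QuaternionGroup 2

/-- The "axis" of a noncentral element of `Q₈` (junk value `0` on the centre). -/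
def q8ax : Q8 → Fin 3
  | a _ => 0
  | xa i => if i = 0 ∨ i = 2 then 1 else 2

/-- Representatives of the three axes. -/
def q8rep : Fin 3 → Q8 := ![a 1, xa 0, xa 1]

theorem q8_E1 : ∀ i : Fin 3, q8ax (q8rep i) = i ∧ q8rep i * q8rep i = a 2 := by decide

theorem q8_E2 : ∀ y : Q8, y * y = a 2 → (q8rep (q8ax y) = y ∨ q8rep (q8ax y) = y * a 2) := by
  decide

theorem q8_E3 : ∀ x : Q8, q8ax (x * a 2) = q8ax x := by decide

theorem q8_E4 : ∀ x : Q8, x * x = 1 → x ≠ 1 → x = a 2 := by decide

theorem q8_E5 : ∀ x : Q8, ∃ i : Fin 4, ∃ j : Fin 2, x = a 1 ^ (i : ℕ) * xa 0 ^ (j : ℕ) := by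
  decide

theorem q8_E6 : ∀ x : Q8, ∀ i : Fin 3, q8ax (x * q8rep i * x⁻¹) = i := by decide

theorem q8_E8 : ∀ x : Q8, x * a 2 * a 2 = x := by decide

/-- Every automorphism fixes the central involution. -/
theorem q8_aut_z (β : MulAut Q8) : β (a 2) = a 2 := by
  apply q8_E4
  · rw [← map_mul]
    have : (a 2 : Q8) * a 2 = 1 := by decide
    rw [this, map_one]
  · intro h
    have h1 : β (a 2) = β 1 := by rw [h, map_one]
    have h2 := β.injective h1
    revert h2
    decide

theorem q8_aut_nc (β : MulAut Q8) {y : Q8} (hy : y * y = a 2) : β y * β y = a 2 := by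
  rw [← map_mul, hy, q8_aut_z]

/-- The action of `Aut(Q₈)` on the three axes. -/
def q8Act : MulAction (MulAut Q8) (Fin 3) where
  smul β i := q8ax (β (q8rep i))
  one_smul i := (q8_E1 i).1
  mul_smul β γ i := by
    show q8ax ((β * γ) (q8rep i)) = q8ax (β (q8rep (q8ax (γ (q8rep i)))))
    rw [MulAut.mul_apply]
    have hy := q8_aut_nc γ (q8_E1 i).2
    rcases q8_E2 _ hy with h | h
    · rw [h]
    · rw [h, map_mul, q8_aut_z, q8_E3]

/-- The permutation representation of `Aut(Q₈)` on the three axes. -/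
def q8Perm : MulAut Q8 →* Equiv.Perm (Fin 3) := @MulAction.toPermHom _ _ _ q8Act

theorem mem_q8Perm_ker (β : MulAut Q8) :
    β ∈ q8Perm.ker ↔ ∀ i : Fin 3, q8ax (β (q8rep i)) = i := by
  rw [MonoidHom.mem_ker]
  constructor
  · intro h i
    have := congrArg (fun σ : Equiv.Perm (Fin 3) => σ i) h
    exact this
  · intro h
    ext i
    exact congrArg Fin.val (h i)

/-- Elements of the kernel map each axis representative to itself or its inverse. -/
theorem q8_ker_apply {β : MulAut Q8} (hβ : β ∈ q8Perm.ker) (i : Fin 3) :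
    β (q8rep i) = q8rep i ∨ β (q8rep i) = q8rep i * a 2 := by
  have h1 := (mem_q8Perm_ker β).1 hβ i
  have hy := q8_aut_nc β (q8_E1 i).2
  rcases q8_E2 _ hy with h | h
  · left
    rw [← h, h1]
  · right
    rw [h1] at h
    have h2 := congrArg (fun t : Q8 => t * a 2) h
    simp only [q8_E8] at h2
    exact h2.symm

/-- An automorphism fixing the two generators is trivial. -/
theorem q8_aut_ext {β γ : MulAut Q8} (h1 : β (a 1) = γ (a 1)) (h2 : β (xa 0) = γ (xa 0)) :
    β = γ := by
  ext x
  obtain ⟨i, j, rfl⟩ := q8_E5 x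
  rw [map_mul, map_mul, map_pow, map_pow, map_pow, map_pow, h1, h2]

/-- Inner automorphisms lie in the kernel. -/
theorem conj_mem_q8Perm_ker (x : Q8) : MulAut.conj x ∈ q8Perm.ker := by
  rw [mem_q8Perm_ker]
  intro i
  rw [MulAut.conj_apply]
  exact q8_E6 x i

/-- The kernel has exponent `2`. -/
theorem q8_ker_sq {β : MulAut Q8} (hβ : β ∈ q8Perm.ker) : β * β = 1 := by
  apply q8_aut_ext
  · rw [MulAut.mul_apply, MulAut.one_apply]
    rcases q8_ker_apply hβ 0 with h | h
    · have h' : β (a 1) = a 1 := h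
      rw [h', h']
    · have h' : β (a 1) = a 1 * a 2 := h
      rw [h', map_mul, h', q8_aut_z, q8_E8]
  · rw [MulAut.mul_apply, MulAut.one_apply]
    rcases q8_ker_apply hβ 1 with h | h
    · have h' : β (xa 0) = xa 0 := h
      rw [h', h']
    · have h' : β (xa 0) = xa 0 * a 2 := h
      rw [h', map_mul, h', q8_aut_z, q8_E8]

/-- The kernel has at most `4` elements. -/
theorem q8_ker_card_le : Nat.card q8Perm.ker ≤ 4 := by
  classical
  let f : q8Perm.ker → Fin 2 × Fin 2 := fun β =>
    (if (β : MulAut Q8) (a 1) = a 1 then 0 else 1, if (β : MulAut Q8) (xa 0) = xa 0 then 0 else 1)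
  have hf : Function.Injective f := by
    intro β γ h
    have h1 : (if (β : MulAut Q8) (a 1) = a 1 then (0 : Fin 2) else 1) =
        (if (γ : MulAut Q8) (a 1) = a 1 then (0 : Fin 2) else 1) := congrArg Prod.fst h
    have h2 : (if (β : MulAut Q8) (xa 0) = xa 0 then (0 : Fin 2) else 1) =
        (if (γ : MulAut Q8) (xa 0) = xa 0 then (0 : Fin 2) else 1) := congrArg Prod.snd h
    apply Subtype.ext
    apply q8_aut_ext
    · have hb : (β : MulAut Q8) (a 1) = a 1 ∨ (β : MulAut Q8) (a 1) = a 1 * a 2 :=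
        q8_ker_apply β.2 0
      have hc : (γ : MulAut Q8) (a 1) = a 1 ∨ (γ : MulAut Q8) (a 1) = a 1 * a 2 :=
        q8_ker_apply γ.2 0
      have hne : (a 1 : Q8) * a 2 ≠ a 1 := by decide
      rcases hb with hb | hb <;> rcases hc with hc | hc
      · rw [hb, hc]
      · exfalso
        rw [if_pos hb, if_neg (by rw [hc]; exact hne)] at h1
        exact absurd h1 (by decide)
      · exfalso
        rw [if_neg (by rw [hb]; exact hne), if_pos hc] at h1
        exact absurd h1 (by decide)
      · rw [hb, hc]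
    · have hb : (β : MulAut Q8) (xa 0) = xa 0 ∨ (β : MulAut Q8) (xa 0) = xa 0 * a 2 :=
        q8_ker_apply β.2 1
      have hc : (γ : MulAut Q8) (xa 0) = xa 0 ∨ (γ : MulAut Q8) (xa 0) = xa 0 * a 2 :=
        q8_ker_apply γ.2 1
      have hne : (xa 0 : Q8) * a 2 ≠ xa 0 := by decide
      rcases hb with hb | hb <;> rcases hc with hc | hc
      · rw [hb, hc]
      · exfalso
        rw [if_pos hb, if_neg (by rw [hc]; exact hne)] at h2
        exact absurd h2 (by decide)
      · exfalso
        rw [if_neg (by rw [hb]; exact hne), if_pos hc] at h2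
        exact absurd h2 (by decide)
      · rw [hb, hc]
  have := Nat.card_le_card_of_injective f hf
  simpa using this

section pullback

variable {K : Type*} [Group K] (R : Subgroup K) [hR : R.Normal] (E : R ≃* Q8)

/-- The conjugation action of `K` on `R ≅ Q₈`, as a homomorphism to `Aut(Q₈)`. -/
noncomputable def q8Hom : K →* MulAut Q8 :=
  (MulAut.congr E).toMonoidHom.comp MulAut.conjNormal

theorem q8Hom_apply (k : K) (g : R) :
    q8Hom R E k (E g) = E ⟨k * g * k⁻¹, hR.conj_mem g g.2 k⟩ := by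
  show E ((MulAut.conjNormal k) (E.symm (E g))) = _
  rw [E.symm_apply_apply]
  congr 1

theorem q8Hom_ker : (q8Hom R E).ker = Subgroup.centralizer (R : Set K) := by
  ext k
  rw [MonoidHom.mem_ker, Subgroup.mem_centralizer_iff]
  constructor
  · intro h g hg
    have h1 := congrArg (fun β : MulAut Q8 => β (E ⟨g, hg⟩)) h
    simp only [MulAut.one_apply] at h1
    rw [q8Hom_apply] at h1
    have h2 := congrArg Subtype.val (E.injective h1)
    simp only at h2
    calc g * k = (k * g * k⁻¹) * k := by rw [h2]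
      _ = k * g := by group
  · intro h
    ext x
    obtain ⟨g, rfl⟩ := E.surjective x
    rw [q8Hom_apply, MulAut.one_apply]
    congr 1
    apply Subtype.ext
    have := h g g.2
    show k * g * k⁻¹ = g
    rw [← this]
    group

/-- The kernel of the action of `K` on the three axes of `R ≅ Q₈`. -/
noncomputable def q8K0 : Subgroup K := (q8Perm.comp (q8Hom R E)).ker

instance q8K0_normal : (q8K0 R E).Normal := by
  unfold q8K0
  infer_instance

theorem q8K0_index_dvd [Finite K] : (q8K0 R E).index ∣ 6 := by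
  unfold q8K0
  rw [Subgroup.index_ker]
  have h1 := Subgroup.card_subgroup_dvd_card (q8Perm.comp (q8Hom R E)).range
  have h2 : Nat.card (Equiv.Perm (Fin 3)) = 6 := by
    rw [Nat.card_eq_fintype_card, Fintype.card_perm]
    rfl
  rwa [h2] at h1

theorem centralizer_le_q8K0 : Subgroup.centralizer (R : Set K) ≤ q8K0 R E := by
  intro k hk
  rw [← q8Hom_ker R E, MonoidHom.mem_ker] at hk
  unfold q8K0
  rw [MonoidHom.mem_ker, MonoidHom.comp_apply, hk, map_one]

theorem le_q8K0 : R ≤ q8K0 R E := by
  intro h hh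
  unfold q8K0
  rw [MonoidHom.mem_ker, MonoidHom.comp_apply, ← MonoidHom.mem_ker]
  have : q8Hom R E h = MulAut.conj (E ⟨h, hh⟩) := by
    ext x
    obtain ⟨g, rfl⟩ := E.surjective x
    rw [q8Hom_apply, MulAut.conj_apply, ← map_inv, ← map_mul, ← map_mul]
    congr 1
  rw [this]
  exact conj_mem_q8Perm_ker _

theorem q8Hom_mem_ker {k : K} (hk : k ∈ q8K0 R E) : q8Hom R E k ∈ q8Perm.ker := by
  unfold q8K0 at hk
  rwa [MonoidHom.mem_ker, MonoidHom.comp_apply, ← MonoidHom.mem_ker] at hk

/-- Elements of odd order in `K₀` centralize `R`. -/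
theorem q8K0_odd {k : K} (hk : k ∈ q8K0 R E) {m : ℕ} (hm : Odd m) (hkm : k ^ m = 1) :
    k ∈ Subgroup.centralizer (R : Set K) := by
  rw [← q8Hom_ker R E, MonoidHom.mem_ker]
  set β := q8Hom R E k with hβ
  have h1 : β * β = 1 := q8_ker_sq (q8Hom_mem_ker R E hk)
  have h2 : β ^ m = 1 := by rw [hβ, ← map_pow, hkm, map_one]
  obtain ⟨j, rfl⟩ := hm
  rw [pow_succ, pow_mul, pow_two, h1, one_pow, one_mul] at h2
  exact h2

/-- `|K₀ : C_K(R)|` divides `4`. -/
theorem q8K0_relIndex [Finite K] :
    (Subgroup.centralizer (R : Set K)).relIndex (q8K0 R E) ∣ 4 := by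
  rw [← q8Hom_ker R E, Subgroup.relIndex_ker]
  set B : Subgroup (MulAut Q8) := (q8K0 R E).map (q8Hom R E) with hB
  have hBle : B ≤ q8Perm.ker := by
    rintro _ ⟨k, hk, rfl⟩
    exact q8Hom_mem_ker R E hk
  have hfin : Finite B := by
    rw [hB]
    exact Finite.of_surjective _ ((q8Hom R E).subgroupMap_surjective (q8K0 R E))
  have h2grp : IsPGroup 2 B := by
    intro b
    refine ⟨1, ?_⟩
    apply Subtype.ext
    have := q8_ker_sq (hBle b.2)
    simpa [pow_two] using this
  obtain ⟨j, hj⟩ := IsPGroup.iff_card.1 h2grp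
  have hle : Nat.card B ≤ 4 := by
    have hkfin : Finite q8Perm.ker := inferInstance
    exact (Nat.card_le_card_of_injective (Subgroup.inclusion hBle)
      (Subgroup.inclusion_injective hBle)).trans q8_ker_card_le
  rw [hj] at hle ⊢
  have hj2 : j ≤ 2 := by
    by_contra h
    push Not at h
    have : 2 ^ 3 ≤ 2 ^ j := Nat.pow_le_pow_right (by norm_num) h
    omega
  exact pow_dvd_pow 2 hj2

end pullback

end Cfsg.Agent.Gagola
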