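import Mathlib
import Cfsg.Agent.Helper1.Hall
import Cfsg.Agent.Helper4.FrattiniAut
import Cfsg.Agent.Gagola.H8_SolvLin
import Cfsg.Agent.Gagola.H8_SolvQ8

/-!
# Gagola's theorem, solvable case: the counting argument for `Q₈` and `p = 3`

If `R ≅ Q₈` is normal in `K` (in the setting `Lin 3 φ`, `K` solvable), then `K` cannot induce the
full symmetric group on the three axes of `R`.
-/

set_option autoImplicit false

namespace Cfsg.Agent.Gagola

open Cfsg.Agent.Helper1 QuaternionGroup

variable {K : Type*} [Group K] {V : Type*} [CommGroup V]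
variable {p : ℕ} [hp : Fact p.Prime] {φ : K →* MulAut V}

omit hp in
theorem phi_mul (a b : K) (v : V) : φ a (φ b v) = φ (a * b) v := by
  rw [φ.map_mul a b]
  rfl

theorem inv_mul_inv_of_cube {v : V} (h : v * v * v = 1) : v⁻¹ * v⁻¹ = v := by
  calc v⁻¹ * v⁻¹ = v⁻¹ * v⁻¹ * (v * v * v) := by rw [h, mul_one]
    _ = v := by group

/-- An involution of `K` inverts `V` (for odd `p`). -/
theorem Lin.inv_of_sq (L : Lin p φ) (hp2 : p ≠ 2) {z : K} (hz : z * z = 1) (hz1 : z ≠ 1)
    (v : V) : φ z v = v⁻¹ := by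
  have hord : orderOf z = 2 := orderOf_eq_prime (by rw [pow_two]; exact hz) hz1
  have hcop : (orderOf z).Coprime p := by
    rw [hord]
    exact (Nat.coprime_primes Nat.prime_two hp.out).2 (Ne.symm hp2)
  have hfix : φ z (v * φ z v) = v * φ z v := by
    rw [map_mul, phi_mul, hz, map_one, MulAut.one_apply, mul_comm]
  have h1 := L.fpf hz1 hcop hfix
  exact eq_inv_of_mul_eq_one_right h1

section eigen

variable (L : Lin 3 φ) {i j z : K} (hii : i * i = z) (hjj : j * j = z)
  (hji : j * i = z * (i * j)) (hzz : z * z = 1) (hz1 : z ≠ 1)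

/-- The endomorphism `v ↦ i(v) j(v)` of `V`. -/
def tauHom (φ : K →* MulAut V) (i j : K) : V →* V :=
  ((φ i : V ≃* V) : V →* V) * ((φ j : V ≃* V) : V →* V)

theorem tauHom_apply (i j : K) (v : V) : tauHom φ i j v = φ i v * φ j v := rfl

include L in
theorem Lin.cube (v : V) : v * v * v = 1 := by
  have := L.exp v
  rwa [pow_succ, pow_two] at this

include L hii hjj hji hzz hz1 in
theorem tauHom_invol (v : V) : tauHom φ i j (tauHom φ i j v) = v := by
  have hinv := L.inv_of_sq (by norm_num) hzz hz1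
  have e1 : φ i (φ i v) = v⁻¹ := by rw [phi_mul, hii, hinv]
  have e2 : φ j (φ j v) = v⁻¹ := by rw [phi_mul, hjj, hinv]
  have e3 : φ j (φ i v) = (φ i (φ j v))⁻¹ := by
    rw [phi_mul, hji, ← phi_mul, hinv, phi_mul]
  rw [tauHom_apply, tauHom_apply, map_mul, map_mul, e1, e2, e3]
  set w := φ i (φ j v) with hw
  calc v⁻¹ * w * (w⁻¹ * v⁻¹) = v⁻¹ * v⁻¹ := by group
    _ = v := inv_mul_inv_of_cube (L.cube v)

/-- the `+1` eigenspace -/
def Vplus (φ : K →* MulAut V) (i j : K) : Subgroup V :=
  (tauHom φ i j).eqLocus (MonoidHom.id V)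

/-- the `-1` eigenspace -/
def Vminus (φ : K →* MulAut V) (i j : K) : Subgroup V :=
  (tauHom φ i j * MonoidHom.id V).ker

theorem mem_Vplus (i j : K) (v : V) : v ∈ Vplus φ i j ↔ tauHom φ i j v = v := Iff.rfl

theorem mem_Vminus (i j : K) (v : V) : v ∈ Vminus φ i j ↔ tauHom φ i j v = v⁻¹ := by
  unfold Vminus
  rw [MonoidHom.mem_ker, MonoidHom.mul_apply, MonoidHom.id_apply, mul_eq_one_iff_eq_inv]

include L hii hjj hji hzz hz1 in
theorem card_Vplus_mul_card_Vminus [Finite V] :
    Nat.card (Vplus φ i j) * Nat.card (Vminus φ i j) = Nat.card V := by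
  have hinvol := tauHom_invol L hii hjj hji hzz hz1
  apply Subgroup.IsComplement'.card_mul_card
  apply Subgroup.isComplement'_of_disjoint_and_mul_eq_univ
  · rw [Subgroup.disjoint_def]
    intro t h1 h2
    rw [mem_Vplus] at h1
    rw [mem_Vminus, h1] at h2
    have h3 : t * t = 1 := by
      nth_rewrite 2 [h2]
      exact mul_inv_cancel t
    have h4 := L.cube t
    rw [h3, one_mul] at h4
    exact h4
  · rw [Set.eq_univ_iff_forall]
    intro v
    set t := tauHom φ i j v with ht
    refine ⟨(v * t)⁻¹, ?_, t * v⁻¹, ?_, ?_⟩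
    · show (v * t)⁻¹ ∈ Vplus φ i j
      rw [mem_Vplus, map_inv, map_mul, ← ht, hinvol, mul_comm]
    · show t * v⁻¹ ∈ Vminus φ i j
      rw [mem_Vminus, map_mul, map_inv, ← ht, hinvol, mul_inv_rev, inv_inv]
    · show (v * t)⁻¹ * (t * v⁻¹) = v
      calc (v * t)⁻¹ * (t * v⁻¹) = (t * v)⁻¹ * (t * v⁻¹) := by rw [mul_comm v t]
        _ = v⁻¹ * v⁻¹ := by group
        _ = v := inv_mul_inv_of_cube (L.cube v)

include L hii hjj hji hzz hz1 in
/-- `φ (i j)` swaps the two eigenspaces. -/
theorem tauHom_swap (v : V) :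
    tauHom φ i j (φ (i * j) v) = (φ (i * j) (tauHom φ i j v))⁻¹ := by
  have hinv := L.inv_of_sq (by norm_num) hzz hz1
  have hzi : i * z = z * i := by rw [← hii, mul_assoc]
  have e1 : i * (i * j) = z * j := by rw [← mul_assoc, hii]
  have e2 : j * (i * j) = i := by
    calc j * (i * j) = (j * i) * j := by group
      _ = (z * (i * j)) * j := by rw [hji]
      _ = z * (i * (j * j)) := by group
      _ = z * (i * z) := by rw [hjj]
      _ = z * (z * i) := by rw [hzi]
      _ = (z * z) * i := by group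
      _ = i := by rw [hzz, one_mul]
  have e3 : (i * j) * i = j := by
    calc (i * j) * i = i * (j * i) := by group
      _ = i * (z * (i * j)) := by rw [hji]
      _ = (i * z) * (i * j) := by group
      _ = (z * i) * (i * j) := by rw [hzi]
      _ = z * ((i * i) * j) := by group
      _ = z * (z * j) := by rw [hii]
      _ = (z * z) * j := by group
      _ = j := by rw [hzz, one_mul]
  have e4 : (i * j) * j = z * i := by
    calc (i * j) * j = i * (j * j) := by group
      _ = i * z := by rw [hjj]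
      _ = z * i := hzi
  have a1 : φ i (φ (i * j) v) = (φ j v)⁻¹ := by rw [phi_mul, e1, ← phi_mul, hinv]
  have a2 : φ j (φ (i * j) v) = φ i v := by rw [phi_mul, e2]
  have a3 : φ (i * j) (φ i v) = φ j v := by rw [phi_mul, e3]
  have a4 : φ (i * j) (φ j v) = (φ i v)⁻¹ := by rw [phi_mul, e4, ← phi_mul, hinv]
  show φ i (φ (i * j) v) * φ j (φ (i * j) v) = (φ (i * j) (φ i v * φ j v))⁻¹
  rw [(φ (i * j)).map_mul, a1, a2, a3, a4, mul_inv_rev, inv_inv, mul_comm]

include L hii hjj hji hzz hz1 in
theorem card_Vplus_eq_card_Vminus [Finite V] :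
    Nat.card (Vplus φ i j) = Nat.card (Vminus φ i j) := by
  have hswap := tauHom_swap L hii hjj hji hzz hz1
  apply le_antisymm
  · let f : Vplus φ i j → Vminus φ i j := fun x => ⟨φ (i * j) x, by
      rw [mem_Vminus, hswap, (mem_Vplus i j _).1 x.2]⟩
    apply Nat.card_le_card_of_injective f
    intro x y h
    have := congrArg Subtype.val h
    exact Subtype.ext ((φ (i * j)).injective this)
  · let f : Vminus φ i j → Vplus φ i j := fun x => ⟨φ (i * j) x, by
      rw [mem_Vplus, hswap, (mem_Vminus i j _).1 x.2, map_inv, inv_inv]⟩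
    apply Nat.card_le_card_of_injective f
    intro x y h
    have := congrArg Subtype.val h
    exact Subtype.ext ((φ (i * j)).injective this)

include L in
/-- A subgroup of order prime to `3` commuting with `i` and `j` acts freely on the nonidentity
elements of the `+1` eigenspace. -/
theorem card_dvd_card_Vplus_sub_one [Finite K] [Finite V] (D : Subgroup K)
    (hD : (Nat.card D).Coprime 3) (hDi : ∀ d ∈ D, d * i = i * d) (hDj : ∀ d ∈ D, d * j = j * d) :
    Nat.card D ∣ Nat.card (Vplus φ i j) - 1 := by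
  classical
  have hpres : ∀ d ∈ D, ∀ v : V, tauHom φ i j (φ d v) = φ d (tauHom φ i j v) := by
    intro d hd v
    calc tauHom φ i j (φ d v) = φ i (φ d v) * φ j (φ d v) := rfl
      _ = φ (i * d) v * φ (j * d) v := by rw [phi_mul, phi_mul]
      _ = φ (d * i) v * φ (d * j) v := by rw [hDi d hd, hDj d hd]
      _ = φ d (φ i v) * φ d (φ j v) := by rw [phi_mul, phi_mul]
      _ = φ d (tauHom φ i j v) := by rw [tauHom_apply, map_mul]
  let X : Type _ := ↥(({1} : Set (Vplus φ i j))ᶜ)
  have hXne : ∀ x : X, x.1 ≠ 1 := fun x h => x.2 (Set.mem_singleton_iff.2 h)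
  let act : MulAction D X :=
    { smul := fun d x => ⟨⟨φ (d : K) (x.1 : V), by
          rw [mem_Vplus, hpres d d.2, (mem_Vplus i j _).1 x.1.2]⟩, by
          intro h
          apply hXne x
          have h1 := Set.mem_singleton_iff.1 h
          have h2 := congrArg Subtype.val h1
          simp only [Subgroup.coe_one] at h2
          have h3 : φ (d : K) (x.1 : V) = φ (d : K) 1 := by rw [h2, map_one]
          exact Subtype.ext ((φ (d : K)).injective h3)⟩
      one_smul := by
        intro x
        apply Subtype.ext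
        apply Subtype.ext
        show φ ((1 : D) : K) (x.1 : V) = x.1
        rw [Subgroup.coe_one, map_one, MulAut.one_apply]
      mul_smul := by
        intro a b x
        apply Subtype.ext
        apply Subtype.ext
        show φ ((a * b : D) : K) (x.1 : V) = φ (a : K) (φ (b : K) (x.1 : V))
        rw [Subgroup.coe_mul, phi_mul] }
  have hfree : ∀ x : X, MulAction.stabilizer D x = ⊥ := by
    intro x
    rw [eq_bot_iff]
    intro d hd
    rw [Subgroup.mem_bot]
    by_contra hd1
    have hfix : φ (d : K) (x.1 : V) = x.1 := by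
      have h1 : d • x = x := hd
      have h2 := congrArg (fun y : X => ((y.1 : Vplus φ i j) : V)) h1
      exact h2
    have hord : (orderOf (d : K)).Coprime 3 := by
      have h1 : orderOf (d : K) ∣ Nat.card D := by
        rw [Subgroup.orderOf_coe]
        exact orderOf_dvd_natCard d
      exact Nat.Coprime.coprime_dvd_left h1 hD
    have hd1' : (d : K) ≠ 1 := fun h => hd1 (Subtype.ext h)
    have := L.fpf hd1' hord hfix
    exact hXne x (Subtype.ext this)
  have h1 := @Cfsg.Agent.Helper4.card_dvd_of_free D X _ _ act _ hfree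
  have h2 : Nat.card X = Nat.card (Vplus φ i j) - 1 := by
    show Nat.card ↥(({1} : Set (Vplus φ i j))ᶜ) = _
    rw [Nat.card_coe_set_eq, Set.ncard_compl, Set.ncard_singleton]
  rwa [h2] at h1

end eigen

section count

/-- The order of `V` is a power of `p`. -/
theorem Lin.card_V [Finite V] (L : Lin p φ) : ∃ s : ℕ, Nat.card V = p ^ s := by
  have h : IsPGroup p V := fun v => ⟨1, by rw [pow_one]; exact L.exp v⟩
  exact IsPGroup.iff_card.1 h

theorem q8_rel_lift (R : Subgroup K) (E : R ≃* Q8) (x y w : Q8) (h : x * y = w) :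
    ((E.symm x : R) : K) * ((E.symm y : R) : K) = ((E.symm w : R) : K) := by
  rw [← Subgroup.coe_mul, ← map_mul, h]

variable [Finite K] [Finite V]

/-- The arithmetic at the end of the counting argument. -/
theorem count_arith {u t s a c d x y m : ℕ} (hu : u = 3 ^ t) (hV : u * u = 3 ^ s) (hu2 : 2 ≤ u)
    (hm : m = u * u - 1) (hH : m = d * (x * y)) (hd : d ∣ u - 1) (hx : x ≤ 4) (hy : y ≤ 2)
    (hK : c * 8 * 6 = 3 ^ a * m) : False := by
  have hu7 : u ≤ 7 := by
    obtain ⟨w, rfl⟩ : ∃ w, u = w + 2 := ⟨u - 2, by omega⟩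
    have hd' : d ≤ w + 1 := Nat.le_of_dvd (by omega) (by simpa using hd)
    have h1 : x * y ≤ 8 := by nlinarith
    have h2 : d * (x * y) ≤ (w + 1) * 8 := Nat.mul_le_mul hd' h1
    have h3 : (w + 2) * (w + 2) - 1 = w * w + 4 * w + 3 := by
      have : (w + 2) * (w + 2) = w * w + 4 * w + 3 + 1 := by ring
      omega
    rw [h3] at hm
    by_contra hcon
    push Not at hcon
    nlinarith
  have ht : t = 1 := by
    rcases t with _ | _ | t
    · rw [pow_zero] at hu
      omega
    · rfl
    · exfalso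
      have : 3 ^ 2 ≤ 3 ^ (t + 1 + 1) := Nat.pow_le_pow_right (by norm_num) (by omega)
      omega
  subst ht
  have hu3 : u = 3 := by rw [hu, pow_one]
  subst hu3
  have hm8 : m = 8 := by rw [hm]
  rw [hm8] at hK
  have h2 : 2 ∣ 3 ^ a := by
    have : 3 ^ a = c * 6 := by omega
    rw [this]
    exact Dvd.dvd.mul_left (by norm_num) c
  have := Nat.Prime.dvd_of_dvd_pow Nat.prime_two h2
  omega

/-- If `R ≅ Q₈` is normal in the solvable group `K` (in the setting `Lin 3 φ`), then `K` does
not induce the full symmetric group on the three axes of `R`. -/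
theorem Lin.no_S3 [Group.IsSolvable K] (L : Lin 3 φ) (R : Subgroup K) [hR : R.Normal]
    (E : R ≃* Q8) (h6 : (q8K0 R E).index = 6) : False := by
  have hp3 : Fact (Nat.Prime 3) := ⟨Nat.prime_three⟩
  set i : K := ((E.symm (a 1) : R) : K) with hi
  set j : K := ((E.symm (xa 0) : R) : K) with hj
  set z : K := ((E.symm (a 2) : R) : K) with hz
  have hiR : i ∈ R := (E.symm (a 1)).2
  have hjR : j ∈ R := (E.symm (xa 0)).2
  have hii : i * i = z := q8_rel_lift R E _ _ _ (by decide)
  have hjj : j * j = z := q8_rel_lift R E _ _ _ (by decide)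
  have hij : i * j = ((E.symm (a 1 * xa 0) : R) : K) := q8_rel_lift R E _ _ _ rfl
  have hji : j * i = z * (i * j) := by
    rw [hij, hz, q8_rel_lift R E (a 2) (a 1 * xa 0) (xa 0 * a 1) (by decide)]
    exact q8_rel_lift R E _ _ _ rfl
  have hzz : z * z = 1 := by
    have h1 := q8_rel_lift R E (a 2) (a 2) 1 (by decide)
    rw [map_one, Subgroup.coe_one] at h1
    exact h1
  have hz1 : z ≠ 1 := by
    intro h
    have h1 : E.symm (a 2) = 1 := Subtype.ext h
    have h2 : (a 2 : Q8) = 1 := (MulEquiv.map_eq_one_iff E.symm).1 h1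
    revert h2
    decide
  -- cardinalities
  set u := Nat.card (Vplus φ i j) with hu
  have hVu : u * u = Nat.card V := by
    have h1 := card_Vplus_mul_card_Vminus L hii hjj hji hzz hz1
    rwa [← card_Vplus_eq_card_Vminus L hii hjj hji hzz hz1] at h1
  obtain ⟨s, hs⟩ := L.card_V
  obtain ⟨v₀, hv₀⟩ := L.nt
  have hVnt : Nontrivial V := ⟨⟨v₀, 1, hv₀⟩⟩
  have hV2 : 1 < Nat.card V := Finite.one_lt_card_iff_nontrivial.2 hVnt
  have hu2 : 2 ≤ u := by
    by_contra hcon
    push Not at hcon
    have : u * u ≤ 1 * 1 := Nat.mul_le_mul (by omega) (by omega)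
    omega
  obtain ⟨t, -, hut⟩ : ∃ t ≤ s, u = 3 ^ t := by
    apply (Nat.dvd_prime_pow Nat.prime_three).1
    rw [← hs, ← hVu]
    exact Dvd.intro _ rfl
  obtain ⟨a, ha⟩ := L.card_eq
  set m := Nat.card V - 1 with hm
  have hs0 : s ≠ 0 := by
    rintro rfl
    rw [pow_zero] at hs
    omega
  have h3V : 3 ∣ Nat.card V := by
    rw [hs]
    exact dvd_pow_self 3 hs0
  have hcop : m.Coprime 3 := by
    rw [Nat.coprime_comm, Nat.Prime.coprime_iff_not_dvd Nat.prime_three]
    intro h
    have : 3 ∣ 1 := by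
      have h1 : Nat.card V = m + 1 := by omega
      rw [h1] at h3V
      exact (Nat.dvd_add_right h).1 h3V
    omega
  -- the Hall subgroup
  have hHall := hallProp_of_solvable (Nat.card K) K rfl m (3 ^ a) (by rw [ha, mul_comm])
    (Nat.Coprime.pow_right a hcop)
  obtain ⟨H, hHm, -⟩ := hHall.2 ⊥ (by rw [Subgroup.card_bot]; exact Nat.coprime_one_left _)
  set C : Subgroup K := Subgroup.centralizer (R : Set K) with hC
  set D : Subgroup K := H ⊓ C with hD
  have hDH : Nat.card D ∣ Nat.card H := Subgroup.card_dvd_of_le inf_le_left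
  have hDcop : (Nat.card D).Coprime 3 := by
    rw [hHm] at hDH
    exact Nat.Coprime.coprime_dvd_left hDH hcop
  have hDi : ∀ d ∈ D, d * i = i * d := fun d hd =>
    (Subgroup.mem_centralizer_iff.1 (Subgroup.mem_inf.1 hd).2 i hiR).symm
  have hDj : ∀ d ∈ D, d * j = j * d := fun d hd =>
    (Subgroup.mem_centralizer_iff.1 (Subgroup.mem_inf.1 hd).2 j hjR).symm
  have hDu : Nat.card D ∣ u - 1 := card_dvd_card_Vplus_sub_one L D hDcop hDi hDj
  -- the index chain
  have hc1 : Nat.card D * C.relIndex H = Nat.card H := by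
    have h1 := Subgroup.relIndex_mul_relIndex ⊥ D H bot_le inf_le_left
    rw [Subgroup.relIndex_bot_left, Subgroup.relIndex_bot_left, hD, Subgroup.inf_relIndex_left]
      at h1
    exact h1
  have hc2 : C.relIndex (q8K0 R E ⊓ H) * (q8K0 R E).relIndex H = C.relIndex H := by
    have h1 := Subgroup.relIndex_inf_mul_relIndex C (q8K0 R E) H
    rwa [inf_of_le_left (centralizer_le_q8K0 R E)] at h1
  have hx : C.relIndex (q8K0 R E ⊓ H) ≤ 4 := by
    have h4 := q8K0_relIndex R E
    have h0 : C.relIndex (q8K0 R E) ≠ 0 := fun h => by rw [h] at h4; omega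
    exact (Subgroup.relIndex_le_of_le_right inf_le_left h0).trans (Nat.le_of_dvd (by norm_num) h4)
  have hy : (q8K0 R E).relIndex H ≤ 2 := by
    have h1 : (q8K0 R E).relIndex H ∣ 6 := h6 ▸ Subgroup.relIndex_dvd_index_of_normal _ H
    have h2 : (q8K0 R E).relIndex H ∣ m := hHm ▸ Subgroup.relIndex_dvd_card _ H
    have h3 : ((q8K0 R E).relIndex H).Coprime 3 := Nat.Coprime.coprime_dvd_left h2 hcop
    have h4 : (q8K0 R E).relIndex H ∣ 2 := by
      have : (6 : ℕ) = 2 * 3 := by norm_num
      rw [this] at h1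
      exact Nat.Coprime.dvd_of_dvd_mul_right h3 h1
    exact Nat.le_of_dvd (by norm_num) h4
  -- the order of `K₀`
  have hR8 : Nat.card R = 8 := by
    rw [Nat.card_congr E.toEquiv, Nat.card_eq_fintype_card, QuaternionGroup.card]
  obtain ⟨c, hc⟩ : 8 ∣ Nat.card (q8K0 R E) := hR8 ▸ Subgroup.card_dvd_of_le (le_q8K0 R E)
  have hK0 := Subgroup.card_mul_index (q8K0 R E)
  rw [h6, hc, ha] at hK0
  have e1 : u * u = 3 ^ s := by rw [hVu, hs]
  have e2 : m = u * u - 1 := by rw [hm, hVu]
  have e3 : m = Nat.card D * (C.relIndex (q8K0 R E ⊓ H) * (q8K0 R E).relIndex H) := by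
    rw [← hHm, ← hc1, ← hc2]
  have e4 : c * 8 * 6 = 3 ^ a * m := by rw [← hK0]; ring
  exact count_arith hut e1 hu2 e2 e3 hDu hx hy e4

end count

end Cfsg.Agent.Gagola
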