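import Mathlib
import Cfsg.Agent.Helper1.Cores
import Cfsg.Agent.Helper1.MinNonPNilp
import Cfsg.Agent.Gagola.H8_SolvLin
import Cfsg.Agent.Gagola.H8_SolvAut
import Cfsg.Agent.Gagola.H8_SolvQ8
import Cfsg.Agent.Gagola.H8_SolvAsm
import Cfsg.Agent.Gagola.H8_SolvCount

/-!
# Gagola's theorem, solvable case: the structure of a solvable transitive linear group with
`p`-groups as point stabilizers

In the setting `Lin p φ` with `K` solvable and `O_p(K) = 1`, the group `K` has a normal
`p`-complement and abelian Sylow `p`-subgroups.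
-/

set_option autoImplicit false

namespace Cfsg.Agent.Gagola

open Cfsg.Agent.Helper1 QuaternionGroup
open scoped commutatorElement

variable {K : Type*} [Group K]

/-- Pull back a normal `p`-complement along a homomorphism. -/
theorem exists_normal_of_hom [Finite K] {p : ℕ} [hp : Fact p.Prime] {A : Type*} [Group A]
    [Finite A] (ψ : K →* A) (hA : Cfsg.HasNormalPComplement p A) :
    ∃ M : Subgroup K, M.Normal ∧ (∀ x ∈ M, (∃ j : ℕ, x ^ (p ^ j) = 1) → x ∈ ψ.ker) ∧
      ∃ j : ℕ, M.index = p ^ j := by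
  obtain ⟨T, hTn, hTcop, k, hk⟩ := hasNormalPComplement_iff_exists.1 hA
  refine ⟨T.comap ψ, inferInstance, ?_, ?_⟩
  · rintro x hx ⟨j, hj⟩
    rw [MonoidHom.mem_ker]
    have hxT : ψ x ∈ T := hx
    have h1 : orderOf (ψ x) ∣ p ^ j := by
      apply orderOf_dvd_of_pow_eq_one
      rw [← map_pow, hj, map_one]
    have h2 : orderOf (ψ x) ∣ Nat.card T := by
      have : orderOf (⟨ψ x, hxT⟩ : T) = orderOf (ψ x) := Subgroup.orderOf_mk _ hxT
      rw [← this]
      exact orderOf_dvd_natCard _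
    have h3 : orderOf (ψ x) = 1 :=
      Nat.eq_one_of_dvd_coprimes (Nat.Coprime.pow_right j hTcop) h2 h1
    exact orderOf_eq_one_iff.1 h3
  · have h1 : (T.comap ψ).index ∣ p ^ k := by
      rw [Subgroup.index_comap, ← hk]
      exact Subgroup.relIndex_dvd_index_of_normal T ψ.range
    obtain ⟨j, -, hj⟩ := (Nat.dvd_prime_pow hp.out).1 h1
    exact ⟨j, hj⟩

/-- A `p`-element lies in every normal subgroup of index prime to `p`. -/
theorem mem_of_pow_of_coprime_index [Finite K] {p : ℕ} (N : Subgroup K) [hN : N.Normal]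
    (h : N.index.Coprime p) {x : K} {j : ℕ} (hx : x ^ (p ^ j) = 1) : x ∈ N := by
  rw [← QuotientGroup.eq_one_iff]
  have h1 : orderOf (x : K ⧸ N) ∣ p ^ j := by
    apply orderOf_dvd_of_pow_eq_one
    rw [← QuotientGroup.mk_pow, hx, QuotientGroup.mk_one]
  have h2 : orderOf (x : K ⧸ N) ∣ N.index := by
    rw [Subgroup.index_eq_card]
    exact orderOf_dvd_natCard _
  have h3 : orderOf (x : K ⧸ N) = 1 :=
    Nat.eq_one_of_dvd_coprimes (Nat.Coprime.pow_right j h) h2 h1
  exact orderOf_eq_one_iff.1 h3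

theorem perm3_comm : ∀ σ τ : Equiv.Perm (Fin 3), σ ^ 3 = 1 → τ ^ 3 = 1 → σ * τ = τ * σ := by
  decide

/-- An element of `S₃` of odd prime power order has order dividing `3`. -/
theorem perm3_cube {p : ℕ} (hp2 : p ≠ 2) (hp : p.Prime) (σ : Equiv.Perm (Fin 3)) {j : ℕ}
    (h : σ ^ (p ^ j) = 1) : σ ^ 3 = 1 := by
  have h1 : orderOf σ ∣ p ^ j := orderOf_dvd_of_pow_eq_one h
  have h2 : orderOf σ ∣ 2 * 3 := by
    have : Nat.card (Equiv.Perm (Fin 3)) = 2 * 3 := by
      rw [Nat.card_eq_fintype_card, Fintype.card_perm]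
      rfl
    rw [← this]
    exact orderOf_dvd_natCard σ
  have h3 : (orderOf σ).Coprime 2 := by
    apply Nat.Coprime.coprime_dvd_left h1
    apply Nat.Coprime.pow_left
    exact (Nat.coprime_primes hp Nat.prime_two).2 hp2
  have h4 : orderOf σ ∣ 3 := Nat.Coprime.dvd_of_dvd_mul_left h3 h2
  exact orderOf_dvd_iff_pow_eq_one.1 h4

theorem conjNormal_ker (R : Subgroup K) [hR : R.Normal] :
    (MulAut.conjNormal : K →* MulAut R).ker = Subgroup.centralizer (R : Set K) := by
  ext k
  rw [MonoidHom.mem_ker, Subgroup.mem_centralizer_iff]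
  constructor
  · intro h g hg
    have h2 := congrArg (fun f : MulAut R => ((f ⟨g, hg⟩ : R) : K)) h
    simp only [MulAut.conjNormal_apply, MulAut.one_apply] at h2
    calc g * k = (k * g * k⁻¹) * k := by rw [h2]
      _ = k * g := by group
  · intro h
    ext g
    rw [MulAut.conjNormal_apply, MulAut.one_apply]
    have := h g g.2
    rw [← this]
    group

variable {V : Type*} [CommGroup V] {p : ℕ} [hp : Fact p.Prime] {φ : K →* MulAut V}

/-- The cyclic case of the local analysis. -/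
theorem local_cyclic [Finite K] (R : Subgroup K) [hR : R.Normal] (hc : IsCyclic R) :
    (∃ M : Subgroup K, M.Normal ∧
      (∀ x ∈ M, (∃ j : ℕ, x ^ (p ^ j) = 1) → x ∈ Subgroup.centralizer (R : Set K)) ∧
      ∃ j : ℕ, M.index = p ^ j) ∧
    (∀ P : Subgroup K, IsPGroup p P → ∀ x ∈ P, ∀ y ∈ P,
      ⁅x, y⁆ ∈ Subgroup.centralizer (R : Set K)) := by
  constructor
  · let inst : CommGroup (MulAut R) :=
      { (inferInstance : Group (MulAut R)) with
        mul_comm := by
          intro a b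
          let E := IsCyclic.mulAutMulEquiv R
          apply E.injective
          rw [map_mul, map_mul, mul_comm] }
    have hnil : Group.IsNilpotent (MulAut R) := @CommGroup.isNilpotent (MulAut R) inst
    have hA := hasNormalPComplement_of_isNilpotent hnil p
    have := exists_normal_of_hom (MulAut.conjNormal : K →* MulAut R) hA
    rwa [conjNormal_ker] at this
  · intro P _ x _ y _
    exact commutator_mem_centralizer_of_isCyclic R x y

omit hp in
/-- The case where all `p`-elements centralize `R`. -/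
theorem local_of_forall (R : Subgroup K)
    (h : ∀ x : K, (∃ j : ℕ, x ^ (p ^ j) = 1) → x ∈ Subgroup.centralizer (R : Set K)) :
    (∃ M : Subgroup K, M.Normal ∧
      (∀ x ∈ M, (∃ j : ℕ, x ^ (p ^ j) = 1) → x ∈ Subgroup.centralizer (R : Set K)) ∧
      ∃ j : ℕ, M.index = p ^ j) ∧
    (∀ P : Subgroup K, IsPGroup p P → ∀ x ∈ P, ∀ y ∈ P,
      ⁅x, y⁆ ∈ Subgroup.centralizer (R : Set K)) := by
  constructor
  · exact ⟨⊤, inferInstance, fun x _ hx => h x hx, 0, by rw [Subgroup.index_top, pow_zero]⟩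
  · intro P hP x hx y hy
    apply h
    have hc : ⁅x, y⁆ ∈ P := by
      rw [commutatorElement_def]
      exact P.mul_mem (P.mul_mem (P.mul_mem hx hy) (P.inv_mem hx)) (P.inv_mem hy)
    obtain ⟨j, hj⟩ := hP ⟨⁅x, y⁆, hc⟩
    refine ⟨j, ?_⟩
    have h2 := congrArg Subtype.val hj
    rwa [Subgroup.coe_pow, Subgroup.coe_one] at h2

theorem odd_prime_pow (hp2 : p ≠ 2) (j : ℕ) : Odd (p ^ j) :=
  Odd.pow (hp.out.eq_two_or_odd'.resolve_left hp2)

/-- The `Q₈` case of the local analysis. -/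
theorem Lin.local_q8 [Finite K] [Finite V] [Group.IsSolvable K] (L : Lin p φ) (hp2 : p ≠ 2)
    (R : Subgroup K) [hR : R.Normal] (E : R ≃* Q8) :
    (∃ M : Subgroup K, M.Normal ∧
      (∀ x ∈ M, (∃ j : ℕ, x ^ (p ^ j) = 1) → x ∈ Subgroup.centralizer (R : Set K)) ∧
      ∃ j : ℕ, M.index = p ^ j) ∧
    (∀ P : Subgroup K, IsPGroup p P → ∀ x ∈ P, ∀ y ∈ P,
      ⁅x, y⁆ ∈ Subgroup.centralizer (R : Set K)) := by
  constructor
  · by_cases hdvd : p ∣ (q8K0 R E).index
    · -- `p = 3`
      have h6 := q8K0_index_dvd R E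
      have hp6 : p ∣ 2 * 3 := hdvd.trans h6
      have hp3 : p = 3 := by
        rcases (Nat.Prime.dvd_mul hp.out).1 hp6 with h | h
        · exact absurd ((Nat.prime_dvd_prime_iff_eq hp.out Nat.prime_two).1 h) hp2
        · exact (Nat.prime_dvd_prime_iff_eq hp.out Nat.prime_three).1 h
      subst hp3
      have hidx : (q8K0 R E).index = 3 ∨ (q8K0 R E).index = 6 := by
        have hle : (q8K0 R E).index ≤ 6 := Nat.le_of_dvd (by norm_num) h6
        have hpos : 0 < (q8K0 R E).index := Nat.pos_of_dvd_of_pos h6 (by norm_num)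
        obtain ⟨c, hc⟩ := hdvd
        omega
      rcases hidx with h3 | h6'
      · refine ⟨q8K0 R E, inferInstance, ?_, 1, by rw [h3, pow_one]⟩
        rintro x hx ⟨j, hj⟩
        exact q8K0_odd R E hx (odd_prime_pow hp2 j) hj
      · exact (L.no_S3 R E h6').elim
    · have hcop : (q8K0 R E).index.Coprime p :=
        ((Nat.Prime.coprime_iff_not_dvd hp.out).2 hdvd).symm
      refine ⟨⊤, inferInstance, ?_, 0, by rw [Subgroup.index_top, pow_zero]⟩
      rintro x - ⟨j, hj⟩
      have hx : x ∈ q8K0 R E := mem_of_pow_of_coprime_index _ hcop hj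
      exact q8K0_odd R E hx (odd_prime_pow hp2 j) hj
  · intro P hP x hx y hy
    have hpow : ∀ w ∈ P, ∃ j : ℕ, w ^ (p ^ j) = 1 := by
      intro w hw
      obtain ⟨j, hj⟩ := hP ⟨w, hw⟩
      refine ⟨j, ?_⟩
      have h2 := congrArg Subtype.val hj
      rwa [Subgroup.coe_pow, Subgroup.coe_one] at h2
    have hc : ⁅x, y⁆ ∈ P := by
      rw [commutatorElement_def]
      exact P.mul_mem (P.mul_mem (P.mul_mem hx hy) (P.inv_mem hx)) (P.inv_mem hy)
    set ψ : K →* Equiv.Perm (Fin 3) := q8Perm.comp (q8Hom R E) with hψ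
    have hcube : ∀ w ∈ P, ψ w ^ 3 = 1 := by
      intro w hw
      obtain ⟨j, hj⟩ := hpow w hw
      apply perm3_cube hp2 hp.out (ψ w) (j := j)
      rw [← map_pow, hj, map_one]
    have hcomm : ψ x * ψ y = ψ y * ψ x := perm3_comm _ _ (hcube x hx) (hcube y hy)
    have hK0 : ⁅x, y⁆ ∈ q8K0 R E := by
      show ⁅x, y⁆ ∈ ψ.ker
      rw [MonoidHom.mem_ker, commutatorElement_def, map_mul, map_mul, map_mul, map_inv, map_inv,
        hcomm]
      group
    obtain ⟨j, hj⟩ := hpow _ hc
    exact q8K0_odd R E hK0 (odd_prime_pow hp2 j) hj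

/-- The local analysis at a prime `r ≠ p`. -/
theorem Lin.local [Finite K] [Finite V] [Group.IsSolvable K] (L : Lin p φ) {r : ℕ}
    (hr : r.Prime) (hrp : r ≠ p) :
    (∃ M : Subgroup K, M.Normal ∧
      (∀ x ∈ M, (∃ j : ℕ, x ^ (p ^ j) = 1) →
        x ∈ Subgroup.centralizer (Cfsg.pCore r K : Set K)) ∧
      ∃ j : ℕ, M.index = p ^ j) ∧
    (∀ P : Subgroup K, IsPGroup p P → ∀ x ∈ P, ∀ y ∈ P,
      ⁅x, y⁆ ∈ Subgroup.centralizer (Cfsg.pCore r K : Set K)) := by
  have hr' : Fact r.Prime := ⟨hr⟩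
  have hRp : IsPGroup r (Cfsg.pCore r K) := pCore_isPGroup r
  rcases L.cyclic_or_quat hrp (Cfsg.pCore r K) hRp with hc | ⟨rfl, n, ⟨E⟩⟩
  · exact local_cyclic _ hc
  · have hp2 : p ≠ 2 := fun h => hrp h.symm
    rcases n with _ | _ | n
    · -- `QuaternionGroup 1` is cyclic
      have hc : IsCyclic (Cfsg.pCore 2 K) := by
        have : IsCyclic (QuaternionGroup (2 ^ 0)) := by
          rw [pow_zero]
          exact QuaternionGroup.quaternionGroup_one_isCyclic
        exact isCyclic_of_surjective E.symm E.symm.surjective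
      exact local_cyclic _ hc
    · have E' : (Cfsg.pCore 2 K) ≃* Q8 := E
      exact L.local_q8 hp2 _ E'
    · apply local_of_forall
      rintro x ⟨j, hj⟩
      exact mem_centralizer_of_quat _ (by omega : 2 ≤ n + 1 + 1) E (odd_prime_pow hp2 j) hj

/-- **Main structure theorem**: in the setting `Lin p φ` with `K` solvable and `O_p(K) = 1`, the
group `K` has a normal `p`-complement and abelian `p`-subgroups. -/
theorem Lin.main [Finite K] [Finite V] [Group.IsSolvable K] (L : Lin p φ)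
    (hcore : Cfsg.pCore p K = ⊥) :
    Cfsg.HasNormalPComplement p K ∧
      ∀ P : Subgroup K, IsPGroup p P → ∀ x ∈ P, ∀ y ∈ P, x * y = y * x :=
  assemble hcore (fun _ hr hrp => (L.local hr hrp).1) (fun _ hr hrp => (L.local hr hrp).2)

end Cfsg.Agent.Gagola
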