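import Mathlib
import Cfsg.Prelude.Def_Solvable
import Cfsg.Prelude.Def_Transfer
import Cfsg.Prelude.Def_CaseTheorems
import Cfsg.Agent.Helper1.Cores
import Cfsg.Agent.Gagola.H8_Basic
import Cfsg.Agent.Gagola.H8_SolvLin
import Cfsg.Agent.Gagola.H8_SolvMain

/-!
# Gagola's theorem, solvable case: from the group-theoretic setting `Cam p N` to the linear
setting `Lin p φ`

In the setting `Cam p N` (with `G` finite), `O_p(G) = C_G(N)` and `G ⧸ O_p(G)` acts faithfully on
`N`, transitively on the nonidentity elements, with `p`-groups as point stabilizers.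
-/

set_option autoImplicit false

namespace Cfsg.Agent.Gagola

open Cfsg.Agent.Helper1

variable {G : Type*} [Group G]

/-- `O_p(G ⧸ O_p(G)) = 1`. -/
theorem pCore_quotient_pCore_eq_bot (p : ℕ) [hp : Fact p.Prime] :
    Cfsg.pCore p (G ⧸ Cfsg.pCore p G) = ⊥ := by
  have hT : IsPGroup p (Cfsg.pCore p (G ⧸ Cfsg.pCore p G)) := pCore_isPGroup p
  have h1 : IsPGroup p ((Cfsg.pCore p (G ⧸ Cfsg.pCore p G)).comap
      (QuotientGroup.mk' (Cfsg.pCore p G))) := by
    apply hT.comap_of_ker_isPGroup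
    rw [QuotientGroup.ker_mk']
    exact pCore_isPGroup p
  have h2 : (Cfsg.pCore p (G ⧸ Cfsg.pCore p G)).comap (QuotientGroup.mk' (Cfsg.pCore p G)) ≤
      Cfsg.pCore p G := le_pCore inferInstance h1
  rw [eq_bot_iff]
  intro q hq
  obtain ⟨g, rfl⟩ := QuotientGroup.mk_surjective q
  have hg : g ∈ Cfsg.pCore p G := h2 hq
  rw [Subgroup.mem_bot, QuotientGroup.eq_one_iff]
  exact hg

variable {p : ℕ} [hp : Fact p.Prime] {N : Subgroup G} [hN : N.Normal]

omit hN in
/-- The centralizer of a nonidentity element of `N` is a `p`-group. -/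
theorem Cam.pow_of_commute [Finite G] (h : Cam p N) {v : G} (hv : v ∈ N) (hv1 : v ≠ 1) {g : G}
    (hg : g * v = v * g) : ∃ n : ℕ, g ^ (p ^ n) = 1 := by
  obtain ⟨e, m, hm, hem⟩ := Nat.exists_eq_pow_mul_and_not_dvd (orderOf_pos g).ne' p
    hp.out.ne_one
  refine ⟨e, ?_⟩
  by_contra hy1
  set y := g ^ (p ^ e) with hy
  have hym : y ^ m = 1 := by
    rw [hy, ← pow_mul, ← hem, pow_orderOf_eq_one]
  have hyo : (orderOf y).Coprime p := by
    have h1 : orderOf y ∣ m := orderOf_dvd_of_pow_eq_one hym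
    have h2 : m.Coprime p := ((Nat.Prime.coprime_iff_not_dvd hp.out).2 hm).symm
    exact Nat.Coprime.coprime_dvd_left h1 h2
  have hc : y * v = v * y := by
    have hcomm : Commute g v := hg
    exact (hcomm.pow_left (p ^ e)).eq
  exact hv1 (h.fpf hy1 hyo hv hc)

omit hN in
/-- The centralizer of `N` is a `p`-group. -/
theorem Cam.centralizer_isPGroup [Finite G] (h : Cam p N) :
    IsPGroup p (Subgroup.centralizer (N : Set G)) := by
  obtain ⟨v, hv, hv1⟩ := h.exists_ne_one
  intro g
  have hg : (g : G) * v = v * g := (Subgroup.mem_centralizer_iff.1 g.2 v hv).symm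
  obtain ⟨n, hn⟩ := h.pow_of_commute hv hv1 hg
  exact ⟨n, Subtype.ext (by rw [Subgroup.coe_pow, hn, Subgroup.coe_one])⟩

/-- `O_p(G) = C_G(N)`. -/
theorem Cam.pCore_eq_centralizer [Finite G] (h : Cam p N) :
    Cfsg.pCore p G = Subgroup.centralizer (N : Set G) := by
  apply le_antisymm
  · -- a fixed point of `O_p(G)` on `N`
    set O : Subgroup G := Cfsg.pCore p G with hO
    have hOp : IsPGroup p O := pCore_isPGroup p
    let act : MulAction O N :=
      MulAction.compHom N ((MulAut.conjNormal : G →* MulAut N).comp O.subtype)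
    have hsmul : ∀ (g : O) (n : N), ((g • n : N) : G) = (g : G) * n * (g : G)⁻¹ := by
      intro g n
      rfl
    have hNnt : Nontrivial N := by
      obtain ⟨c, hc, hc1⟩ := h.exists_ne_one
      exact ⟨⟨⟨c, hc⟩, 1, fun h1 => hc1 (congrArg Subtype.val h1)⟩⟩
    have hdvd : p ∣ Nat.card N := by
      obtain ⟨k, hk0, hk⟩ := (h.pgrp.nontrivial_iff_card).mp hNnt
      rw [hk]
      exact dvd_pow_self p hk0.ne'
    have hone : (1 : N) ∈ MulAction.fixedPoints O N := by
      intro g
      apply Subtype.ext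
      rw [hsmul, Subgroup.coe_one, mul_one, mul_inv_cancel]
    obtain ⟨b, hb, hb1⟩ := hOp.exists_fixed_point_of_prime_dvd_card_of_fixed_point N hdvd hone
    have hbfix : ∀ g ∈ O, g * (b : G) * g⁻¹ = b := by
      intro g hg
      have := hb ⟨g, hg⟩
      have h2 := congrArg Subtype.val this
      rw [hsmul] at h2
      exact h2
    have hb1' : (b : G) ≠ 1 := fun h1 => hb1 (Subtype.ext h1).symm
    intro g hg
    rw [Subgroup.mem_centralizer_iff]
    intro n hn
    by_cases hn1 : n = 1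
    · rw [hn1, one_mul, mul_one]
    · obtain ⟨x, hx⟩ := isConj_iff.1 (h.trans b b.2 n hn hb1' hn1)
      have hgx : x⁻¹ * g * x ∈ O := by
        have := (Cfsg.pCore_normal p G).conj_mem g hg x⁻¹
        rwa [inv_inv] at this
      have h3 := hbfix _ hgx
      rw [← hx]
      calc x * (b : G) * x⁻¹ * g
          = x * ((b : G) * (x⁻¹ * g * x)) * x⁻¹ := by group
        _ = x * ((x⁻¹ * g * x) * (b : G) * (x⁻¹ * g * x)⁻¹ * (x⁻¹ * g * x)) * x⁻¹ := by
            rw [h3]
        _ = g * (x * (b : G) * x⁻¹) := by group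
  · exact le_pCore inferInstance h.centralizer_isPGroup

/-- The commutative group structure on `N`. -/
@[reducible] def Cam.commGroup [Finite G] (h : Cam p N) : CommGroup N :=
  { (inferInstance : Group N) with
    mul_comm := fun a b => Subtype.ext (h.comm a a.2 b b.2) }

/-- The linear setting attached to the group-theoretic setting. -/
theorem Cam.exists_lin [Finite G] (h : Cam p N) :
    ∃ φ : G ⧸ Cfsg.pCore p G →* MulAut N, @Lin _ _ N h.commGroup p φ := by
  have hker : (MulAut.conjNormal : G →* MulAut N).ker = Cfsg.pCore p G := by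
    rw [conjNormal_ker, h.pCore_eq_centralizer]
  have hle : Cfsg.pCore p G ≤ (MulAut.conjNormal : G →* MulAut N).ker := hker.ge
  refine ⟨QuotientGroup.lift (Cfsg.pCore p G) MulAut.conjNormal hle, ?_⟩
  have happ : ∀ (g : G) (n : N),
      ((QuotientGroup.lift (Cfsg.pCore p G) (MulAut.conjNormal : G →* MulAut N) hle
        (g : G ⧸ Cfsg.pCore p G) n : N) : G) = g * n * g⁻¹ := by
    intro g n
    rfl
  refine @Lin.mk _ _ N h.commGroup p _ ?_ ?_ ?_ ?_ ?_
  · rw [injective_iff_map_eq_one]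
    intro q hq
    obtain ⟨g, rfl⟩ := QuotientGroup.mk_surjective q
    rw [QuotientGroup.eq_one_iff, ← hker, MonoidHom.mem_ker]
    exact hq
  · intro v
    apply Subtype.ext
    rw [Subgroup.coe_pow, Subgroup.coe_one]
    exact h.exp v.2
  · obtain ⟨c, hc, hc1⟩ := h.exists_ne_one
    exact ⟨⟨c, hc⟩, fun h1 => hc1 (congrArg Subtype.val h1)⟩
  · intro v w hv hw
    have hv1 : (v : G) ≠ 1 := fun h1 => hv (Subtype.ext h1)
    have hw1 : (w : G) ≠ 1 := fun h1 => hw (Subtype.ext h1)
    obtain ⟨x, hx⟩ := isConj_iff.1 (h.trans v v.2 w w.2 hv1 hw1)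
    refine ⟨(x : G ⧸ Cfsg.pCore p G), ?_⟩
    apply Subtype.ext
    rw [happ]
    exact hx
  · intro k v hv hfix
    obtain ⟨g, rfl⟩ := QuotientGroup.mk_surjective k
    have hv1 : (v : G) ≠ 1 := fun h1 => hv (Subtype.ext h1)
    have h2 := congrArg Subtype.val hfix
    rw [happ] at h2
    have hg : g * (v : G) = v * g := by
      calc g * (v : G) = (g * v * g⁻¹) * g := by group
        _ = v * g := by rw [h2]
    obtain ⟨n, hn⟩ := h.pow_of_commute v.2 hv1 hg
    refine ⟨n, ?_⟩
    rw [← QuotientGroup.mk_pow, hn, QuotientGroup.mk_one]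

/-- **Gagola's theorem, solvable case, group-theoretic form.** -/
theorem Cam.solvable_structure [Finite G] [Group.IsSolvable G] (h : Cam p N) :
    Cfsg.HasNormalPComplement p (G ⧸ Cfsg.pCore p G) ∧
      ∀ P : Subgroup (G ⧸ Cfsg.pCore p G), IsPGroup p P → ∀ x ∈ P, ∀ y ∈ P, x * y = y * x := by
  obtain ⟨φ, hφ⟩ := h.exists_lin
  have hsol : Group.IsSolvable (G ⧸ Cfsg.pCore p G) :=
    Group.isSolvable_of_surjective (QuotientGroup.mk'_surjective (Cfsg.pCore p G))
  exact @Lin.main _ _ N h.commGroup p hp φ _ _ hsol hφ (pCore_quotient_pCore_eq_bot p)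

/-- The `p`-cores of `G` in the setting `Cam p N` where `N` is the unique minimal normal
subgroup. -/
theorem Cam.pCore_ne_bot_iff (h : Cam p N)
    (hmin : ∀ K : Subgroup G, K.Normal → K ≠ ⊥ → N ≤ K) (q : ℕ) (hq : q.Prime) :
    Cfsg.pCore q G ≠ ⊥ ↔ q = p := by
  constructor
  · intro hne
    have hq' : Fact q.Prime := ⟨hq⟩
    have hle : N ≤ Cfsg.pCore q G := hmin _ inferInstance hne
    have hNq : IsPGroup q N := (pCore_isPGroup q).to_le hle
    by_contra hqp
    have hdisj := IsPGroup.disjoint_of_ne q p hqp N N hNq h.pgrp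
    rw [disjoint_self] at hdisj
    exact h.ne_bot hdisj
  · rintro rfl hbot
    have hle : N ≤ Cfsg.pCore q G := le_pCore hN h.pgrp
    rw [hbot, le_bot_iff] at hle
    exact h.ne_bot hle

end Cfsg.Agent.Gagola
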